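import Mathlib
import Cfsg.Agent.OddHalf.D4.Facts
import Cfsg.Agent.OddHalf.D4.Pair3
import Cfsg.Agent.OddHalf.D4.Spor.Transport
import Cfsg.Agent.OddHalf.D4.Exists

-- merged: Cfsg.Agent.OddHalf.D4.Spor.Act
section

/-!
# ODD half, D4, sporadic components: `AutFacts` from the sheet, the action of `N(K)` on `K`
-/

set_option autoImplicit false

namespace Cfsg.Agent.OddHalf.D4.Spor

open Subgroup Cfsg Cfsg.Agent.OddHalf.D4 Cfsg.Agent.OddHalf.D4.Basic
open Cfsg.Agent.OddHalf.D4.CommConj (Tight cj mem_cj cj_mul card_cj cj_eq_of_mem_normalizer mem_normalizer_of_cj_eq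
  mem_cj_mul)

/-! ### `AutFacts` -/

section Abs

variable {X : Type*} [Group X]

/-- No group of the sheet has a strongly embedded subgroup (from Bender's theorem, see `NoSE.lean`). -/
def NoSE (X : Type*) [Group X] : Prop := ∀ H : Subgroup X, ¬ IsStronglyEmbedded H

theorem orderOf_two_iff {x : X} : orderOf x = 2 ↔ x * x = 1 ∧ x ≠ 1 := by
  constructor
  · intro h
    refine ⟨?_, ?_⟩
    · have := pow_orderOf_eq_one x
      rwa [h, pow_two] at this
    · rintro rfl
      rw [orderOf_one] at h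
      norm_num at h
  · rintro ⟨h1, h2⟩
    exact orderOf_eq_prime (by rw [pow_two]; exact h1) h2

/-- (F1) from `sylAut` -/
theorem inner_of_sylAut [Finite X] (hZ : center X = ⊥)
    (h : ∀ S : Sylow 2 X, ∀ α : MulAut X, IsPGroup 2 ↥(zpowers α) → (∀ x ∈ S, α x = x) → Inn α)
    (S : Sylow 2 X) (φ : MulAut X) (hφ : ∃ k : ℕ, φ ^ 2 ^ k = 1) (hS : ∀ s ∈ S, φ s = s) :
    ∃ s ∈ S, φ = MulAut.conj s := by
  obtain ⟨k, hk⟩ := hφ
  have hp : IsPGroup 2 ↥(zpowers φ) := by
    rintro ⟨_, n, rfl⟩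
    refine ⟨k, Subtype.ext ?_⟩
    show (φ ^ n) ^ 2 ^ k = 1
    rw [← zpow_natCast, ← zpow_mul, mul_comm, zpow_mul, zpow_natCast, hk, one_zpow]
  obtain ⟨x, hx⟩ := h S φ hp hS
  refine ⟨x, ?_, hx⟩
  -- `x` is a 2-element commuting with `S`
  have hc : ∀ s ∈ S, s * x = x * s := by
    intro s hs
    have h1 := hS s hs
    rw [hx, MulAut.conj_apply] at h1
    calc s * x = (x * s * x⁻¹) * x := by rw [h1]
      _ = x * s := by group
  have hx2 : x ^ 2 ^ k = 1 := by
    have h1 : x ^ 2 ^ k ∈ center X := by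
      rw [mem_center_iff]
      intro g
      have h2 : (MulAut.conj (x ^ 2 ^ k) : MulAut X) g = g := by
        rw [map_pow, ← hx, hk]; rfl
      rw [MulAut.conj_apply] at h2
      calc g * x ^ 2 ^ k = (x ^ 2 ^ k * g * (x ^ 2 ^ k)⁻¹) * x ^ 2 ^ k := by rw [h2]
        _ = x ^ 2 ^ k * g := by group
    rwa [hZ, mem_bot] at h1
  have h2 : IsPGroup 2 ↥(zpowers x) := by
    rintro ⟨_, n, rfl⟩
    refine ⟨k, Subtype.ext ?_⟩
    show (x ^ n) ^ 2 ^ k = 1
    rw [← zpow_natCast, ← zpow_mul, mul_comm, zpow_mul, zpow_natCast, hx2, one_zpow]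
  have h3 : IsPGroup 2 ↥((S : Subgroup X) ⊔ zpowers x) := by
    apply S.isPGroup'.to_sup_of_normal_left' h2
    rw [zpowers_le, mem_normalizer_iff]
    intro s
    constructor
    · intro hs
      have : x * s * x⁻¹ = s := by rw [← hc s hs]; group
      rw [this]; exact hs
    · intro hs
      have h4 : x⁻¹ * (x * s * x⁻¹) * x = x * s * x⁻¹ := by
        have h5 := hc _ hs
        calc x⁻¹ * (x * s * x⁻¹) * x = x⁻¹ * ((x * s * x⁻¹) * x) := by group
          _ = x⁻¹ * (x * (x * s * x⁻¹)) := by rw [h5]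
          _ = x * s * x⁻¹ := by group
      have h5 : s = x * s * x⁻¹ := by
        calc s = x⁻¹ * (x * s * x⁻¹) * x := by group
          _ = _ := h4
      rw [h5]; exact hs
  have h4 := S.is_maximal' h3 le_sup_left
  have h5 : x ∈ (S : Subgroup X) ⊔ zpowers x := mem_sup_right (mem_zpowers x)
  rw [h4] at h5
  exact h5

/-- (F0) from `bal` -/
theorem core_of_bal [Finite X]
    (h : ∀ a : X, a * a = 1 → a ≠ 1 → ∀ I : Subgroup X, (∀ i ∈ I, i * a = a * i) →
      (∀ c : X, c * a = a * c → ∀ i ∈ I, c * i * c⁻¹ ∈ I) → Odd (Nat.card ↥I) → I = ⊥)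
    {a : X} (ha : orderOf a = 2) : centralizerPPrimeCore 2 a = ⊥ := by
  obtain ⟨h1, h2⟩ := orderOf_two_iff.mp ha
  apply h a h1 h2
  · rintro _ ⟨i, _, rfl⟩
    exact mem_centralizer_singleton_iff.mp i.2
  · rintro c hc _ ⟨i, hi, rfl⟩
    have hn : (pPrimeCore 2 ↥(centralizer ({a} : Set X))).Normal := inferInstance
    exact ⟨_, hn.conj_mem i hi ⟨c, mem_centralizer_singleton_iff.mpr hc⟩, rfl⟩
  · have h3 : Nat.card ↥(centralizerPPrimeCore 2 a) = Nat.card ↥(pPrimeCore 2 ↥(centralizer ({a} : Set X))) :=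
      (Nat.card_congr ((pPrimeCore 2 ↥(centralizer ({a} : Set X))).equivMapOfInjective _
        (centralizer ({a} : Set X)).subtype_injective).toEquiv).symm
    rw [h3]
    exact Nat.coprime_two_right.mp (Cfsg.Agent.Lib.Cores.pPrimeCore_coprime 2)

/-- `AutFacts` from the sheet -/
theorem Sheet.autFacts [Finite X] (h : Sheet X) (hZ : center X = ⊥) (hse : NoSE X) : AutFacts X where
  inner := inner_of_sylAut hZ h.sylAut
  uniq := by
    intro S s hs hs2 hsc s' hs' hs2' hsc'
    obtain ⟨h1, h2⟩ := orderOf_two_iff.mp hs2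
    obtain ⟨h3, h4⟩ := orderOf_two_iff.mp hs2'
    exact h.z1 S s hs h1 h2 hsc s' hs' h3 h4 hsc'
  bal := fun a ha => core_of_bal h.bal ha
  se := hse

end Abs

/-! ### The action of `N(K)` on `K` -/

variable {G : Type*} [Group G]

/-- the automorphism of `K` induced by `y ∈ N(K)` -/
def act (K : Subgroup G) {y : G} (hy : y ∈ normalizer (K : Set G)) : MulAut ↥K := K.normalizerMonoidHom ⟨y, hy⟩

theorem act_coe {K : Subgroup G} {y : G} (hy : y ∈ normalizer (K : Set G)) (x : ↥K) :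
    ((act K hy x : ↥K) : G) = y * x * y⁻¹ := rfl

theorem act_mul {K : Subgroup G} {y z : G} (hy : y ∈ normalizer (K : Set G)) (hz : z ∈ normalizer (K : Set G)) :
    act K (mul_mem hy hz) = act K hy * act K hz := by
  rw [act, act, act, ← map_mul]; rfl

/-- `y` acts as an inner automorphism iff `y ∈ K C(K)` -/
theorem inn_act_iff {K : Subgroup G} {y : G} (hy : y ∈ normalizer (K : Set G)) :
    Inn (act K hy) ↔ y ∈ K ⊔ centralizer (K : Set G) := by
  constructor
  · rintro ⟨k, hk⟩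
    have h1 : (k : G)⁻¹ * y ∈ centralizer (K : Set G) := by
      rw [mem_centralizer_iff]
      intro x hx
      have h2 : y * x * y⁻¹ = (k : G) * x * (k : G)⁻¹ := by
        have := congrArg (fun f : MulAut ↥K => ((f ⟨x, hx⟩ : ↥K) : G)) hk
        simpa [act_coe] using this
      calc x * ((k : G)⁻¹ * y) = (k : G)⁻¹ * ((k : G) * x * (k : G)⁻¹) * y := by group
        _ = (k : G)⁻¹ * (y * x * y⁻¹) * y := by rw [h2]
        _ = (k : G)⁻¹ * y * x := by group
    have h2 : y = (k : G) * ((k : G)⁻¹ * y) := by group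
    rw [h2]
    exact mul_mem_sup k.2 h1
  · intro h
    obtain ⟨k, hk, c, hc, rfl⟩ := exists_decomp h
    refine ⟨⟨k, hk⟩, ?_⟩
    ext x
    rw [act_coe, MulAut.conj_apply]
    show k * c * (x : G) * (k * c)⁻¹ = k * (x : G) * k⁻¹
    have h1 : c * (x : G) = x * c := (comm_of_cen x.2 hc).symm
    calc k * c * (x : G) * (k * c)⁻¹ = k * (c * (x : G)) * c⁻¹ * k⁻¹ := by group
      _ = k * (x * c) * c⁻¹ * k⁻¹ := by rw [h1]
      _ = k * (x : G) * k⁻¹ := by group

/-- (Schreier) perfect subgroups of `N(K)` lie in `K C(K)` -/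
theorem le_sup_of_perfect {K : Subgroup G}
    (hs : ∀ P : Subgroup (MulAut ↥K), ⁅P, P⁆ = P → P ≤ (MulAut.conj : ↥K →* MulAut ↥K).range) {P : Subgroup G}
    (hP : P ≤ normalizer (K : Set G)) (hPP : ⁅P, P⁆ = P) : P ≤ K ⊔ centralizer (K : Set G) := by
  have h1 : ⁅P.subgroupOf (normalizer (K : Set G)), P.subgroupOf (normalizer (K : Set G))⁆
      = P.subgroupOf (normalizer (K : Set G)) := by
    apply Subgroup.map_injective (Subgroup.subtype_injective _)
    rw [Subgroup.map_commutator, subgroupOf_map_subtype, inf_eq_left.mpr hP, hPP]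
  have h2 := hs ((P.subgroupOf (normalizer (K : Set G))).map K.normalizerMonoidHom) (perfect_map _ h1)
  intro y hy
  rw [← inn_act_iff (hP hy)]
  obtain ⟨k, hk⟩ := h2 ⟨⟨y, hP hy⟩, mem_subgroupOf.mpr hy, rfl⟩
  exact ⟨k, hk.symm⟩

end Cfsg.Agent.OddHalf.D4.Spor

end

-- merged: Cfsg.Agent.OddHalf.D4.Spor.Proj
section

/-!
# ODD half, D4, sporadic components: projections of `C(L)` to `K`

`K`, `L` a full pair. `pr K H` is the projection to `K` of `H ∩ K C(K)`. `B = pr K (C(L))`, `V = pr K U`.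
-/

set_option autoImplicit false

namespace Cfsg.Agent.OddHalf.D4.Spor

open Subgroup Cfsg Cfsg.Agent.OddHalf.D4 Cfsg.Agent.OddHalf.D4.Basic
open Cfsg.Agent.OddHalf.D4.CommConj (Tight cj mem_cj cj_mul card_cj cj_eq_of_mem_normalizer mem_normalizer_of_cj_eq
  mem_cj_mul)

variable {G : Type*} [Group G]

/-- the projection to `K` of `H ∩ K C(K)` -/
def pr (K H : Subgroup G) : Subgroup G where
  carrier := {a | a ∈ K ∧ ∃ c ∈ centralizer (K : Set G), a * c ∈ H}
  mul_mem' := by
    rintro a b ⟨ha, c, hc, hac⟩ ⟨hb, d, hd, hbd⟩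
    refine ⟨K.mul_mem ha hb, c * d, mul_mem hc hd, ?_⟩
    have h1 := comm_of_cen hb hc
    have e : a * b * (c * d) = (a * c) * (b * d) := by
      calc a * b * (c * d) = a * (b * c) * d := by group
        _ = a * (c * b) * d := by rw [h1]
        _ = _ := by group
    rw [e]; exact H.mul_mem hac hbd
  one_mem' := ⟨K.one_mem, 1, one_mem _, by rw [one_mul]; exact H.one_mem⟩
  inv_mem' := by
    rintro a ⟨ha, c, hc, hac⟩
    refine ⟨K.inv_mem ha, c⁻¹, inv_mem hc, ?_⟩
    have h1 := comm_of_cen ha hc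
    have e : a⁻¹ * c⁻¹ = (a * c)⁻¹ := by rw [h1]; group
    rw [e]; exact H.inv_mem hac

theorem mem_pr {K H : Subgroup G} {a : G} :
    a ∈ pr K H ↔ a ∈ K ∧ ∃ c ∈ centralizer (K : Set G), a * c ∈ H := Iff.rfl

theorem pr_le (K H : Subgroup G) : pr K H ≤ K := fun _ h => h.1

theorem pr_mono (K : Subgroup G) {H H' : Subgroup G} (h : H ≤ H') : pr K H ≤ pr K H' :=
  fun _ ⟨h1, c, hc, h2⟩ => ⟨h1, c, hc, h h2⟩

/-- elements of `H ∩ K` -/
theorem mem_pr_of_mem {K H : Subgroup G} {a : G} (ha : a ∈ K) (haH : a ∈ H) : a ∈ pr K H :=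
  ⟨ha, 1, one_mem _, by rw [mul_one]; exact haH⟩

/-- the projection to `K` -/
theorem exists_projK {K : Subgroup G} (hZ : ∀ x ∈ K, x ∈ centralizer (K : Set G) → x = 1) :
    ∃ π : ↥(K ⊔ centralizer (K : Set G)) →* G, (∀ e, π e ∈ K) ∧
      (∀ e : ↥(K ⊔ centralizer (K : Set G)), ∃ c ∈ centralizer (K : Set G), (e : G) = π e * c) := by
  classical
  have hex : ∀ e : ↥(K ⊔ centralizer (K : Set G)), ∃ k, k ∈ K ∧ ∃ c ∈ centralizer (K : Set G), (e : G) = k * c := by
    intro e
    obtain ⟨k, hk, c, hc, he⟩ := exists_decomp e.2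
    exact ⟨k, hk, c, hc, he⟩
  choose π hπ k hk he using hex
  refine ⟨MonoidHom.mk' π ?_, hπ, fun e => ⟨k e, hk e, he e⟩⟩
  intro a b
  have h1 : π (a * b) * k (a * b) = (π a * π b) * (k a * k b) := by
    rw [← he (a * b), Subgroup.coe_mul, he a, he b]
    have h2 := comm_of_cen (hπ b) (hk a)
    calc π a * k a * (π b * k b) = π a * (k a * π b) * k b := by group
      _ = π a * (π b * k a) * k b := by rw [h2]
      _ = (π a * π b) * (k a * k b) := by group
  exact (decomp_unique hZ (hπ _) (hk _) (K.mul_mem (hπ a) (hπ b))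
    ((centralizer (K : Set G)).mul_mem (hk a) (hk b)) h1).1

/-- `Loc` is invariant under conjugation. -/
theorem loc_cj [Finite G] {K : Subgroup G} (h : Loc K) (g : G) : Loc (CommConj.cj g K) := by
  have conj_eq : ∀ x y : G, (g⁻¹ * x * g) * (g⁻¹ * y * g) = g⁻¹ * (x * y) * g := fun x y => by group
  have conj_inj : ∀ x y : G, g⁻¹ * x * g = g⁻¹ * y * g → x = y := fun x y h => by
    have : x = g * (g⁻¹ * x * g) * g⁻¹ := by group
    rw [this, h]; group
  have comm_iff : ∀ x y : G, (g⁻¹ * x * g) * (g⁻¹ * y * g) = (g⁻¹ * y * g) * (g⁻¹ * x * g) ↔ x * y = y * x := by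
    intro x y
    rw [conj_eq, conj_eq]
    exact ⟨conj_inj _ _, fun h => by rw [h]⟩
  have back : ∀ x : G, g⁻¹ * (g * x * g⁻¹) * g = x := fun x => by group
  have hT' : ∀ T : Subgroup G, IsSyl T (normalizer ((CommConj.cj g K : Subgroup G) : Set G)) →
      IsSyl (CommConj.cj g⁻¹ T) (normalizer (K : Set G)) := by
    intro T hT
    have h1 := hT.cj g⁻¹
    rwa [normalizer_cj, cj_inv_cj] at h1
  have mem' : ∀ {T : Subgroup G} {x : G}, x ∈ T → g⁻¹ * x * g ∈ CommConj.cj g⁻¹ T := by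
    intro T x hx
    rw [mem_cj, inv_inv]
    have e : g * (g⁻¹ * x * g) * g⁻¹ = x := by group
    rw [e]; exact hx
  refine ⟨?_, ?_, ?_, ?_, ?_, ?_⟩
  · exact TightAt.cj h.tight g
  · rw [centralizer_cj, card_cj]; exact h.even
  · intro x hx hxc
    rw [centralizer_cj, mem_cj] at hxc
    exact eq_one_of_conj (h.cen _ (mem_cj.mp hx) hxc)
  · -- inner
    intro T hT y hy hc
    obtain ⟨k, hk, s, hsT, hsA, hsc, hys⟩ := h.inner _ (hT' T hT) _ (mem' hy) (by
      intro s hs hsA
      rw [mem_cj, inv_inv] at hs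
      have h2 := (comm_iff _ _).mpr (hc (g * s * g⁻¹) hs (mem_cj_mul hsA))
      rwa [back] at h2)
    rw [mem_cj, inv_inv] at hsT
    refine ⟨g * k * g⁻¹, by rw [centralizer_cj]; exact mem_cj_mul hk, g * s * g⁻¹, hsT,
      mem_cj_mul hsA, ?_, ?_⟩
    · intro u hu huA
      have h2 := hsc _ (mem' hu) (mem_cj.mp huA)
      calc u * (g * s * g⁻¹) = g * ((g⁻¹ * u * g) * s) * g⁻¹ := by group
        _ = g * (s * (g⁻¹ * u * g)) * g⁻¹ := by rw [h2]
        _ = g * s * g⁻¹ * u := by group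
    · calc y = g * (g⁻¹ * y * g) * g⁻¹ := by group
        _ = g * (k * s) * g⁻¹ := by rw [hys]
        _ = g * k * g⁻¹ * (g * s * g⁻¹) := by group
  · -- uniq
    intro T hT s hs hsA hs2 hsc s' hs' hsA' hs2' hsc'
    apply conj_inj
    apply h.uniq _ (hT' T hT) _ (mem' hs) (mem_cj.mp hsA) (by rw [orderOf_conj']; exact hs2) ?_ _ (mem' hs')
      (mem_cj.mp hsA') (by rw [orderOf_conj']; exact hs2')
    · intro u hu huA
      rw [mem_cj, inv_inv] at hu
      have h2 := (comm_iff _ _).mpr (hsc' (g * u * g⁻¹) hu (mem_cj_mul huA))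
      rwa [back] at h2
    · intro u hu huA
      rw [mem_cj, inv_inv] at hu
      have h2 := (comm_iff _ _).mpr (hsc (g * u * g⁻¹) hu (mem_cj_mul huA))
      rwa [back] at h2
  · -- norm
    intro T hT x hx
    rw [normalizer_cj, mem_cj]
    apply h.norm _ (hT' T hT)
    rw [normalizer_cj, mem_cj, inv_inv]
    have e : g * (g⁻¹ * x * g) * g⁻¹ = x := by group
    rw [e]; exact hx

/-- the sheet of a conjugate -/
theorem sheet_cj {K : Subgroup G} (h : Sheet ↥K) (g : G) : Sheet ↥(CommConj.cj g K) :=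
  Sheet.of_equiv (K.equivMapOfInjective (MulAut.conj g).toMonoidHom (MulAut.conj g).injective) h

/-! ### A full pair -/

section Pair

variable [Finite G] {K L Q U : Subgroup G}

theorem odd_inf (h : FullPair K L Q U) (hK : TightAt K) :
    Odd (Nat.card ↥(centralizer (K : Set G) ⊓ centralizer (L : Set G))) := by
  apply odd_of_forall
  rintro u ⟨h1, h2⟩
  exact h.noInv hK h1 h2

/-- elements of `C(K) ∩ C(L)` have odd order -/
theorem odd_orderOf (h : FullPair K L Q U) (hK : TightAt K) {x : G} (hx : x ∈ centralizer (K : Set G))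
    (hx' : x ∈ centralizer (L : Set G)) : Odd (orderOf x) := by
  refine (odd_inf h hK).of_dvd_nat ?_
  have h1 := orderOf_dvd_natCard
    (⟨x, mem_inf.mpr ⟨hx, hx'⟩⟩ : ↥(centralizer (K : Set G) ⊓ centralizer (L : Set G)))
  rwa [← Subgroup.orderOf_coe] at h1

/-- **(A)** an involution `b` of `B` is the projection of an involution of `C(L)`. -/
theorem exists_invol' (h : FullPair K L Q U) (ht : TightAt K)
    (hcenK : ∀ x ∈ K, x ∈ centralizer (K : Set G) → x = 1) {b : G} (hb : b ∈ pr K (centralizer (L : Set G)))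
    (hbb : b * b = 1) (hb1 : b ≠ 1) : ∃ c ∈ centralizer (K : Set G), b * c ∈ centralizer (L : Set G) ∧
      orderOf (b * c) = 2 := by
  obtain ⟨hbK, c, hc, hbc⟩ := hb
  have hcom : Commute b c := comm_of_cen hbK hc
  have h1 : c * c ∈ centralizer (L : Set G) := by
    have e : c * c = (b * c) * (b * c) := by
      calc c * c = (b * b) * (c * c) := by rw [hbb, one_mul]
        _ = b * (b * c) * c := by group
        _ = b * (c * b) * c := by rw [hcom.eq]
        _ = (b * c) * (b * c) := by group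
    rw [e]; exact mul_mem hbc hbc
  have h2 : Odd (orderOf (c * c)) := odd_orderOf h ht (mul_mem hc hc) h1
  set m := orderOf (c * c) with hm
  obtain ⟨n, hn⟩ := h2
  have hbm : b ^ m = b := by
    rw [hn, pow_add, pow_mul, pow_two, hbb, one_pow, one_mul, pow_one]
  have h3 : b * c ^ m = (b * c) ^ m := by
    rw [hcom.mul_pow, hbm]
  refine ⟨c ^ m, pow_mem hc m, by rw [h3]; exact pow_mem hbc m, ?_⟩
  rw [orderOf_two_iff]
  have hcm : c ^ m * c ^ m = 1 := by
    rw [← pow_add, ← two_mul, pow_mul, pow_two, hm, pow_orderOf_eq_one]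
  have hcom2 : b * c ^ m = c ^ m * b := (hcom.pow_right m)
  constructor
  · calc b * c ^ m * (b * c ^ m) = b * (c ^ m * b) * c ^ m := by group
      _ = b * (b * c ^ m) * c ^ m := by rw [hcom2]
      _ = (b * b) * (c ^ m * c ^ m) := by group
      _ = 1 := by rw [hbb, hcm, one_mul]
  · intro h4
    apply hb1
    apply hcenK b hbK
    have e : b = (c ^ m)⁻¹ := eq_inv_of_mul_eq_one_left h4
    rw [e]; exact inv_mem (pow_mem hc m)

theorem exists_invol (h : FullPair K L Q U) (hK : Loc K) {b : G} (hb : b ∈ pr K (centralizer (L : Set G)))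
    (hbb : b * b = 1) (hb1 : b ≠ 1) : ∃ c ∈ centralizer (K : Set G), b * c ∈ centralizer (L : Set G) ∧
      orderOf (b * c) = 2 :=
  exists_invol' h hK.tight hK.cen hb hbb hb1

/-- **(B)** the elements of `K` commuting with an involution of `B` normalize `L`. -/
theorem mem_normalizer_of_comm' (h : FullPair K L Q U) (ht : TightAt K)
    (hcenK : ∀ x ∈ K, x ∈ centralizer (K : Set G) → x = 1) {b : G}
    (hb : b ∈ pr K (centralizer (L : Set G))) (hbb : b * b = 1) (hb1 : b ≠ 1) {x : G} (hx : x ∈ K)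
    (hxb : x * b = b * x) : x ∈ normalizer (L : Set G) := by
  obtain ⟨c, hc, hbc, h2⟩ := exists_invol' h ht hcenK hb hbb hb1
  refine (h.tightL ht).mem hbc h2 ?_
  have h3 := comm_of_cen hx hc
  calc x * (b * c) = (x * b) * c := by group
    _ = b * (x * c) := by rw [hxb]; group
    _ = b * c * x := by rw [h3]; group

theorem mem_normalizer_of_comm (h : FullPair K L Q U) (hK : Loc K) {b : G}
    (hb : b ∈ pr K (centralizer (L : Set G))) (hbb : b * b = 1) (hb1 : b ≠ 1) {x : G} (hx : x ∈ K)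
    (hxb : x * b = b * x) : x ∈ normalizer (L : Set G) :=
  mem_normalizer_of_comm' h hK.tight hK.cen hb hbb hb1 hx hxb

/-- **(C)** no involution of `B` is 2-central in `K`. -/
theorem not_cen (h : FullPair K L Q U) (hK : Loc K) {b : ↥K}
    (hb : (b : G) ∈ pr K (centralizer (L : Set G))) (hbb : b * b = 1) (hb1 : b ≠ 1) : ¬ Cen b := by
  rintro ⟨S, hS⟩
  obtain ⟨c, hc, hbc, h2⟩ := exists_invol h hK hb (by rw [← Subgroup.coe_mul, hbb]; rfl) (by
    intro h1; exact hb1 (Subtype.ext h1))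
  refine h.noCentral hK hbc h2 (isSyl_of_sylow S) ?_
  rintro _ ⟨s, hs, rfl⟩
  have h3 : (s : G) * b = b * s := congrArg Subtype.val (hS s hs)
  have h4 := comm_of_cen s.2 hc
  show (s : G) * (b * c) = b * c * s
  calc (s : G) * (b * c) = (s * b) * c := by group
    _ = b * (s * c) := by rw [h3]; group
    _ = b * c * s := by rw [h4]; group

omit [Finite G] in
/-- **(E)** `K ∩ N(L)` normalizes `B`. -/
theorem pr_norm {d n : G} (hd : d ∈ K) (hdL : d ∈ normalizer (L : Set G))
    (hn : n ∈ pr K (centralizer (L : Set G))) : d * n * d⁻¹ ∈ pr K (centralizer (L : Set G)) := by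
  obtain ⟨hnK, c, hc, hnc⟩ := hn
  refine ⟨K.mul_mem (K.mul_mem hd hnK) (K.inv_mem hd), c, hc, ?_⟩
  have h1 := comm_of_cen (K.inv_mem hd) hc
  have e : d * n * d⁻¹ * c = d * (n * c) * d⁻¹ := by
    calc d * n * d⁻¹ * c = d * n * (d⁻¹ * c) := by group
      _ = d * n * (c * d⁻¹) := by rw [h1]
      _ = d * (n * c) * d⁻¹ := by group
  rw [e]
  exact centralizer_conj_mem hdL hnc

omit [Finite G] in
theorem card_subgroupOf_of_le {H K : Subgroup G} (h : H ≤ K) : Nat.card ↥(H.subgroupOf K) = Nat.card ↥H :=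
  Nat.card_congr (subgroupOfEquivOfLe h).toEquiv

/-! ### The projection `V` of `U` -/

/-- `V ∩ ... `: the projection is injective on `U`. -/
theorem eq_one_of_mem (h : FullPair K L Q U) (hK : TightAt K) {u : G} (hu : u ∈ U)
    (huK : u ∈ centralizer (K : Set G)) : u = 1 := by
  have h1 := odd_orderOf h hK huK (h.sylU.le hu)
  obtain ⟨n, hn⟩ := h.sylU.two ⟨u, hu⟩
  have h2 : u ^ 2 ^ n = 1 := congrArg Subtype.val hn
  have h3 := orderOf_dvd_of_pow_eq_one h2
  obtain ⟨k, _, hk⟩ := (Nat.dvd_prime_pow Nat.prime_two).mp h3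
  rw [hk] at h1
  rcases k with _ | k
  · rw [pow_zero] at hk
    exact orderOf_eq_one_iff.mp hk
  · exfalso
    rw [pow_succ] at h1
    exact (Nat.not_odd_iff_even.mpr (even_iff_two_dvd.mpr (dvd_mul_left 2 _))) h1

omit [Finite G] in
/-- the product of decompositions -/
theorem decomp_mul {a c b d : G} (hb : b ∈ K) (hc : c ∈ centralizer (K : Set G)) :
    (a * c) * (b * d) = (a * b) * (c * d) := by
  have h1 := comm_of_cen hb hc
  calc (a * c) * (b * d) = a * (c * b) * d := by group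
    _ = a * (b * c) * d := by rw [h1]
    _ = (a * b) * (c * d) := by group

/-- **(F)** `BadB` -/
theorem badB (h : FullPair K L Q U) (hK : Loc K) (h4 : 4 ∣ Nat.card ↥(pr K (centralizer (L : Set G))))
    (hr : ∃ a ∈ U, ∃ b ∈ U, a * a = 1 ∧ a ≠ 1 ∧ b * b = 1 ∧ b ≠ 1 ∧ a * b = b * a ∧ a ≠ b) :
    BadB ((pr K (centralizer (L : Set G))).subgroupOf K) ((normalizer (L : Set G)).subgroupOf K) where
  four := by rw [card_subgroupOf_of_le (pr_le _ _)]; exact h4
  non := fun b hb hbb hb1 => not_cen h hK (mem_subgroupOf.mp hb) hbb hb1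
  cent := by
    intro b hb hbb hb1 c hc
    rw [mem_subgroupOf] at hb ⊢
    exact mem_normalizer_of_comm h hK hb (by rw [← Subgroup.coe_mul, hbb]; rfl)
      (fun h1 => hb1 (Subtype.ext h1)) c.2 (congrArg Subtype.val hc)
  norm := by
    intro d hd n hn
    rw [mem_subgroupOf] at hd hn ⊢
    exact pr_norm d.2 hd hn
  noSyl := by
    intro S hS
    refine h.noSyl hK (isSyl_of_sylow S) ?_
    rintro _ ⟨s, hs, rfl⟩
    exact mem_subgroupOf.mp (hS hs)
  four_group := by
    intro hinn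
    obtain ⟨a, ha, b, hb, haa, ha1, hbb, hb1, hab, hne⟩ := hr
    have key : ∀ u ∈ U, ∃ v ∈ K, ∃ c ∈ centralizer (K : Set G), u = v * c := fun u hu =>
      exists_decomp ((inn_act_iff (h.leU hK.tight hK.even hu)).mp (hinn _))
    obtain ⟨v, hv, c, hc, rfl⟩ := key a ha
    obtain ⟨w, hw, d, hd, rfl⟩ := key b hb
    have sq : ∀ {v c : G}, v ∈ K → c ∈ centralizer (K : Set G) → v * c * (v * c) = 1 → v * v = 1 := by
      intro v c hv hc h1
      rw [decomp_mul hv hc] at h1
      refine (decomp_unique hK.cen (K.mul_mem hv hv) (mul_mem hc hc) K.one_mem (one_mem _) ?_).1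
      rw [h1, one_mul]
    have ne : ∀ {v c : G}, v * c ∈ U → c ∈ centralizer (K : Set G) → v * c ≠ 1 → v ≠ 1 := by
      rintro v c hu hc h1 rfl
      rw [one_mul] at hu h1
      exact h1 (eq_one_of_mem h hK.tight hu hc)
    refine ⟨⟨v, hv⟩, mem_subgroupOf.mpr ⟨hv, c, hc, h.sylU.le ha⟩, ⟨w, hw⟩,
      mem_subgroupOf.mpr ⟨hw, d, hd, h.sylU.le hb⟩, Subtype.ext (sq hv hc haa),
      fun h1 => ne ha hc ha1 (congrArg Subtype.val h1), Subtype.ext (sq hw hd hbb),
      fun h1 => ne hb hd hb1 (congrArg Subtype.val h1), ?_, Subtype.ext ?_⟩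
    · intro h1
      have h2 : v = w := congrArg Subtype.val h1
      subst h2
      apply hne
      have h3 : (v * c)⁻¹ * (v * d) ∈ U := U.mul_mem (U.inv_mem ha) hb
      have h4 : (v * c)⁻¹ * (v * d) = c⁻¹ * d := by group
      have h5 := eq_one_of_mem h hK.tight h3 (by rw [h4]; exact mul_mem (inv_mem hc) hd)
      exact (inv_mul_eq_one.mp h5)
    · show v * w = w * v
      refine (decomp_unique hK.cen (K.mul_mem hv hw) (mul_mem hc hd) (K.mul_mem hw hv) (mul_mem hd hc) ?_).1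
      rw [← decomp_mul hw hc, ← decomp_mul hv hd, hab]

omit [Finite G] in
/-- the elements of `V` are 2-elements -/
theorem isPGroup_pr (h : FullPair K L Q U) (hK : Loc K) : IsPGroup 2 ↥(pr K U) := by
  rintro ⟨a, ha, c, hc, hac⟩
  obtain ⟨n, hn⟩ := h.sylU.two ⟨a * c, hac⟩
  have h2 : (a * c) ^ 2 ^ n = 1 := congrArg Subtype.val hn
  have hcom : Commute a c := comm_of_cen ha hc
  rw [hcom.mul_pow] at h2
  refine ⟨n, Subtype.ext ?_⟩
  show a ^ 2 ^ n = 1
  apply hK.cen _ (pow_mem ha _)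
  rw [eq_inv_of_mul_eq_one_left h2]
  exact inv_mem (pow_mem hc _)

/-- `U` normalizes `C(L) ∩ K C(K)` -/
theorem le_normalizer_inf (h : FullPair K L Q U) (hK : Loc K) :
    U ≤ normalizer ((centralizer (L : Set G) ⊓ (K ⊔ centralizer (K : Set G)) : Subgroup G) : Set G) := by
  intro u hu
  apply mem_normalizer_fintype
  rintro x ⟨hx1, hx2⟩
  have huL := h.sylU.le hu
  have huK := h.leU hK.tight hK.even hu
  have h1 : u * x * u⁻¹ ∈ centralizer (L : Set G) := (centralizer (L : Set G)).mul_mem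
    ((centralizer (L : Set G)).mul_mem huL hx1) ((centralizer (L : Set G)).inv_mem huL)
  refine ⟨h1, ?_⟩
  obtain ⟨k, hk, c, hc, rfl⟩ := exists_decomp hx2
  have e : u * (k * c) * u⁻¹ = (u * k * u⁻¹) * (u * c * u⁻¹) := by group
  rw [e]
  exact mul_mem_sup ((mem_normalizer_iff.mp huK k).mp hk) (centralizer_conj_mem huK hc)

/-- `R0 = U ∩ K C(K)` is a Sylow 2-subgroup of `C(L) ∩ K C(K)` -/
theorem isSyl_R0 (h : FullPair K L Q U) (hK : Loc K) :
    IsSyl (U ⊓ (centralizer (L : Set G) ⊓ (K ⊔ centralizer (K : Set G))))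
      (centralizer (L : Set G) ⊓ (K ⊔ centralizer (K : Set G))) :=
  h.sylU.inf inf_le_left (le_normalizer_inf h hK)

/-- **(G)** `|V| = |U ∩ K C(K)|` -/
theorem card_pr (h : FullPair K L Q U) (hK : Loc K) :
    Nat.card ↥(pr K U) = Nat.card ↥(U ⊓ (K ⊔ centralizer (K : Set G))) := by
  obtain ⟨π, hπ, hπ'⟩ := exists_projK hK.cen
  let f : ↥(U ⊓ (K ⊔ centralizer (K : Set G))) → ↥(pr K U) := fun u =>
    ⟨π ⟨u, u.2.2⟩, hπ _, by
      obtain ⟨c, hc, he⟩ := hπ' ⟨u, u.2.2⟩
      refine ⟨c, hc, ?_⟩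
      rw [← he]; exact u.2.1⟩
  have hf : Function.Bijective f := by
    constructor
    · intro u v huv
      have h1 : π ⟨u, u.2.2⟩ = π ⟨v, v.2.2⟩ := congrArg Subtype.val huv
      have h2 : π (⟨u, u.2.2⟩ * ⟨v, v.2.2⟩⁻¹) = 1 := by rw [map_mul, map_inv, h1, mul_inv_cancel]
      obtain ⟨c, hc, he⟩ := hπ' (⟨u, u.2.2⟩ * ⟨v, v.2.2⟩⁻¹)
      rw [h2, one_mul] at he
      have h3 : (u : G) * (v : G)⁻¹ = c := he
      have h4 : (u : G) * (v : G)⁻¹ = 1 := by
        apply eq_one_of_mem h hK.tight (mul_mem u.2.1 (inv_mem v.2.1))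
        rw [h3]; exact hc
      exact Subtype.ext (mul_inv_eq_one.mp h4)
    · rintro ⟨a, ha, c, hc, hac⟩
      have hm : a * c ∈ K ⊔ centralizer (K : Set G) := mul_mem_sup ha hc
      refine ⟨⟨a * c, hac, hm⟩, Subtype.ext ?_⟩
      obtain ⟨c', hc', he⟩ := hπ' ⟨a * c, hm⟩
      exact (decomp_unique hK.cen (hπ _) hc' ha hc he.symm).1
  exact (Nat.card_congr (Equiv.ofBijective f hf)).symm

/-- **(G)** `V` is a Sylow 2-subgroup of `B` -/
theorem isSyl_pr (h : FullPair K L Q U) (hK : Loc K) : IsSyl (pr K U) (pr K (centralizer (L : Set G))) := by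
  refine ⟨isPGroup_pr h hK, pr_mono K h.sylU.le, ?_⟩
  intro P hP hVP hPB
  obtain ⟨π, hπ, hπ'⟩ := exists_projK hK.cen
  -- the preimage of `P` in `C(L) ∩ K C(K)`
  let JP : Subgroup G := ((P.comap π).map (K ⊔ centralizer (K : Set G)).subtype) ⊓ centralizer (L : Set G)
  have hJ : JP ≤ centralizer (L : Set G) ⊓ (K ⊔ centralizer (K : Set G)) := by
    rintro _ ⟨⟨e, _, rfl⟩, h2⟩
    exact ⟨h2, e.2⟩
  have hR : U ⊓ (centralizer (L : Set G) ⊓ (K ⊔ centralizer (K : Set G))) ≤ JP := by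
    rintro u ⟨hu, huL, huK⟩
    refine ⟨⟨⟨u, huK⟩, ?_, rfl⟩, huL⟩
    show π ⟨u, huK⟩ ∈ P
    apply hVP
    obtain ⟨c, hc, he⟩ := hπ' ⟨u, huK⟩
    refine ⟨hπ _, c, hc, ?_⟩
    rw [← he]; exact hu
  have hsyl : IsSyl (U ⊓ (centralizer (L : Set G) ⊓ (K ⊔ centralizer (K : Set G)))) JP :=
    (isSyl_R0 h hK).mono hR hJ
  let f : ↥JP →* ↥P := (π.comp (inclusion (hJ.trans inf_le_right))).codRestrict P (by
    rintro ⟨x, hx⟩
    have hx' := hx
    obtain ⟨⟨e, he, hex⟩, _⟩ := hx'
    have h1 : inclusion (hJ.trans inf_le_right) ⟨x, hx⟩ = e := Subtype.ext hex.symm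
    show π (inclusion (hJ.trans inf_le_right) ⟨x, hx⟩) ∈ P
    rw [h1]; exact he)
  have hfv : ∀ x : ↥JP, ((f x : ↥P) : G) = π (inclusion (hJ.trans inf_le_right) x) := fun _ => rfl
  have hf : Function.Surjective f := by
    rintro ⟨p, hp⟩
    obtain ⟨hpK, c, hc, hpc⟩ := hPB hp
    have hm : p * c ∈ K ⊔ centralizer (K : Set G) := mul_mem_sup hpK hc
    have h1 : π ⟨p * c, hm⟩ = p := by
      obtain ⟨c', hc', he⟩ := hπ' ⟨p * c, hm⟩
      exact (decomp_unique hK.cen (hπ _) hc' hpK hc he.symm).1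
    have hx : p * c ∈ JP := ⟨⟨⟨p * c, hm⟩, by show π ⟨p * c, hm⟩ ∈ P; rw [h1]; exact hp, rfl⟩, hpc⟩
    refine ⟨⟨p * c, hx⟩, Subtype.ext ?_⟩
    rw [hfv]
    exact h1
  have : Fact (Nat.Prime 2) := ⟨Nat.prime_two⟩
  obtain ⟨S, hS⟩ := hsyl.toSylow
  have h1 : (S.mapSurjective hf : Subgroup ↥P) = ⊤ := by
    have h2 := (S.mapSurjective hf).is_maximal' (Q := ⊤) (hP.of_equiv (Subgroup.topEquiv).symm) le_top
    exact h2.symm
  intro p hp
  have h2 : (⟨p, hp⟩ : ↥P) ∈ (S.mapSurjective hf : Subgroup ↥P) := by rw [h1]; trivial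
  rw [Sylow.coe_mapSurjective] at h2
  obtain ⟨x, hx, hxp⟩ := h2
  have hx' : x ∈ (S : Subgroup ↥JP) := hx
  rw [hS, mem_subgroupOf] at hx'
  have h3 : π (inclusion (hJ.trans inf_le_right) x) = p := by
    rw [← hfv, hxp]
  obtain ⟨c, hc, he⟩ := hπ' (inclusion (hJ.trans inf_le_right) x)
  rw [h3] at he
  refine ⟨by rw [← h3]; exact hπ _, c, hc, ?_⟩
  rw [← he]
  exact hx'.1

/-! ### The index of `U ∩ K C(K)` in `U` -/

omit [Finite G] in
theorem normal_inn (X : Type*) [Group X] : ((MulAut.conj : X →* MulAut X).range).Normal := by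
  refine ⟨?_⟩
  rintro _ ⟨k, rfl⟩ φ
  refine ⟨φ k, ?_⟩
  ext x
  simp [MulAut.conj_apply]

/-- **(H)** `|U| = |U ∩ K C(K)|` or `2 |U ∩ K C(K)|` -/
theorem card_U (h : FullPair K L Q U) (hK : Loc K)
    (hout : ¬ 4 ∣ (MulAut.conj : ↥K →* MulAut ↥K).range.index) :
    Nat.card ↥U = Nat.card ↥(U ⊓ (K ⊔ centralizer (K : Set G))) ∨
      Nat.card ↥U = 2 * Nat.card ↥(U ⊓ (K ⊔ centralizer (K : Set G))) := by
  have hUN := h.leU hK.tight hK.even
  let f : ↥U →* MulAut ↥K := K.normalizerMonoidHom.comp (inclusion hUN)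
  have h1 : (MulAut.conj : ↥K →* MulAut ↥K).range.comap f =
      (U ⊓ (K ⊔ centralizer (K : Set G))).subgroupOf U := by
    ext u
    rw [mem_subgroupOf, mem_comap]
    constructor
    · rintro ⟨k, hk⟩
      exact ⟨u.2, (inn_act_iff (hUN u.2)).mp ⟨k, hk.symm⟩⟩
    · rintro ⟨_, h2⟩
      obtain ⟨k, hk⟩ := (inn_act_iff (hUN u.2)).mpr h2
      exact ⟨k, hk.symm⟩
  have h2 : ((MulAut.conj : ↥K →* MulAut ↥K).range.comap f).index ∣
      (MulAut.conj : ↥K →* MulAut ↥K).range.index := by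
    have := normal_inn ↥K
    rw [index_comap]
    exact relIndex_dvd_index_of_normal _ _
  obtain ⟨n, hn⟩ := IsPGroup.iff_card.mp h.sylU.two
  have h3 : ((MulAut.conj : ↥K →* MulAut ↥K).range.comap f).index ∣ 2 ^ n := by
    rw [← hn]; exact index_dvd_card _
  obtain ⟨k, _, hk⟩ := (Nat.dvd_prime_pow Nat.prime_two).mp h3
  have hk2 : k ≤ 1 := by
    by_contra hcon
    apply hout
    refine dvd_trans ?_ (hk ▸ h2)
    have : 2 ≤ k := by omega
    calc 4 = 2 ^ 2 := by norm_num
      _ ∣ 2 ^ k := pow_dvd_pow 2 this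
  have h4 : Nat.card ↥((U ⊓ (K ⊔ centralizer (K : Set G))).subgroupOf U) *
      ((MulAut.conj : ↥K →* MulAut ↥K).range.comap f).index = Nat.card ↥U := by
    rw [← h1]; exact card_mul_index _
  rw [card_subgroupOf_of_le inf_le_left, hk] at h4
  rcases Nat.le_one_iff_eq_zero_or_eq_one.mp hk2 with rfl | rfl
  · left; rw [← h4, pow_zero, mul_one]
  · right; rw [← h4, pow_one, mul_comm]

end Pair

end Cfsg.Agent.OddHalf.D4.Spor

end

-- merged: Cfsg.Agent.OddHalf.D4.Spor.Gen
section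

/-!
# ODD half, D4, sporadic components: general lemmas
-/

set_option autoImplicit false

namespace Cfsg.Agent.OddHalf.D4.Spor

open Subgroup Cfsg Cfsg.Agent.OddHalf.D4 Cfsg.Agent.OddHalf.D4.Basic

universe u

theorem mem_zpowers_two {G : Type*} [Group G] {w z : G} (hw : w * w = 1) (hz : z ∈ zpowers w) : z = 1 ∨ z = w := by
  obtain ⟨n, rfl⟩ := mem_zpowers_iff.mp hz
  rcases Int.even_or_odd n with ⟨m, rfl⟩ | ⟨m, rfl⟩
  · left
    rw [← two_mul, zpow_mul]
    have : w ^ (2 : ℤ) = 1 := by rw [zpow_ofNat, pow_two, hw]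
    rw [this, one_zpow]
  · right
    rw [zpow_add, zpow_mul, zpow_one]
    have : w ^ (2 : ℤ) = 1 := by rw [zpow_ofNat, pow_two, hw]
    rw [this, one_zpow, one_mul]

/-- the order of a group with Sylow 2-subgroups of order 2 -/
theorem card_mod_four {G : Type*} [Group G] [Finite G] {T M : Subgroup G} (h : IsSyl T M) (h2 : Nat.card ↥T = 2) :
    Nat.card ↥M % 4 = 2 := by
  have : Fact (Nat.Prime 2) := ⟨Nat.prime_two⟩
  obtain ⟨P, hP⟩ := h.toSylow
  have h3 : Nat.card ↥(P : Subgroup ↥M) = 2 := by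
    rw [hP, card_subgroupOf_of_le h.le, h2]
  have h4 : Nat.card ↥(P : Subgroup ↥M) * (P : Subgroup ↥M).index = Nat.card ↥M := card_mul_index _
  have h5 : ¬ 2 ∣ (P : Subgroup ↥M).index := P.not_dvd_index
  rw [h3] at h4
  omega

/-- If `w` is central in `H`, `|H| ≡ 2 (mod 4)`, `H` normal in `C(w)` and `O(C(w)) = 1` then `H = ⟨w⟩`. -/
theorem eq_of_bal {X : Type*} [Group X] [Finite X] {w : X} (hw : w * w = 1) (hw1 : w ≠ 1)
    (hbal : ∀ I : Subgroup X, (∀ i ∈ I, i * w = w * i) →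
      (∀ c : X, c * w = w * c → ∀ i ∈ I, c * i * c⁻¹ ∈ I) → Odd (Nat.card ↥I) → I = ⊥)
    {H : Subgroup X} (hwH : w ∈ H) (hHw : ∀ n ∈ H, n * w = w * n)
    (hn : ∀ c : X, c * w = w * c → ∀ n ∈ H, c * n * c⁻¹ ∈ H) (h4 : Nat.card ↥H % 4 = 2) :
    ∀ n ∈ H, n = 1 ∨ n = w := by
  let w' : ↥H := ⟨w, hwH⟩
  have hww : w' * w' = 1 := Subtype.ext hw
  have hw1' : w' ≠ 1 := fun h => hw1 (congrArg Subtype.val h)
  have ho : orderOf w' = 2 := orderOf_two_iff.mpr ⟨hww, hw1'⟩
  have hc : Nat.card ↥(zpowers w') = 2 := by rw [Nat.card_zpowers, ho]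
  have hcom : ∀ z ∈ zpowers w', ∀ g : ↥H, g * z = z * g := by
    intro z hz g
    rcases mem_zpowers_two hww hz with rfl | rfl
    · rw [mul_one, one_mul]
    · exact Subtype.ext (hHw g g.2)
  have hN : (zpowers w').Normal := by
    refine ⟨?_⟩
    intro z hz g
    rw [hcom z hz g, mul_inv_cancel_right]
    exact hz
  have hidx : Nat.card ↥(zpowers w') * (zpowers w').index = Nat.card ↥H := card_mul_index _
  rw [hc] at hidx
  have hodd : Odd (zpowers w').index := by
    rw [Nat.odd_iff]; omega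
  obtain ⟨O, hO⟩ := exists_right_complement'_of_coprime (N := zpowers w') (by
    rw [hc]; exact Nat.coprime_two_left.mpr hodd)
  have hOc : Odd (Nat.card ↥O) := by
    rw [← hO.symm.index_eq_card] at *
    exact hodd
  have hOn : ∀ c : X, c * w = w * c → ∀ i ∈ O.map H.subtype, c * i * c⁻¹ ∈ O.map H.subtype := by
    rintro c hcw _ ⟨o, ho', rfl⟩
    have hmem := hn c hcw o o.2
    obtain ⟨⟨⟨z, hz⟩, ⟨o', ho''⟩⟩, he⟩ := hO.2 (⟨c * (o : X) * c⁻¹, hmem⟩ : ↥H)
    have he' : z * o' = (⟨c * (o : X) * c⁻¹, hmem⟩ : ↥H) := he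
    have hpow : (⟨c * (o : X) * c⁻¹, hmem⟩ : ↥H) ^ Nat.card ↥O = 1 := by
      apply Subtype.ext
      show (c * (o : X) * c⁻¹) ^ Nat.card ↥O = 1
      have h1 : o ^ Nat.card ↥O = 1 := by
        have := pow_card_eq_one' (x := (⟨o, ho'⟩ : ↥O))
        exact congrArg Subtype.val this
      rw [conj_pow]
      have h2 : (o : X) ^ Nat.card ↥O = 1 := by
        have := congrArg Subtype.val h1
        exact this
      rw [h2]; group
    have ho'2 : o' ^ Nat.card ↥O = 1 := by
      have := pow_card_eq_one' (x := (⟨o', ho''⟩ : ↥O))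
      exact congrArg Subtype.val this
    have hz1 : z = 1 := by
      rcases mem_zpowers_two hww hz with h1 | h1
      · exact h1
      · exfalso
        rw [← he'] at hpow
        have h2 : Commute z o' := (hcom z hz o').symm
        rw [h2.mul_pow, ho'2, mul_one, h1] at hpow
        obtain ⟨m, hm⟩ := hOc
        rw [hm, pow_add, pow_mul, pow_two, hww, one_pow, one_mul, pow_one] at hpow
        exact hw1' hpow
    rw [hz1, one_mul] at he'
    refine ⟨o', ho'', ?_⟩
    rw [he']; rfl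
  have hO1 := hbal (O.map H.subtype) (by
    rintro _ ⟨o, _, rfl⟩
    exact hHw o o.2) hOn (by
    rw [card_map_of_injective H.subtype_injective]
    exact hOc)
  have hO2 : O = ⊥ := (map_eq_bot_iff_of_injective O H.subtype_injective).mp hO1
  intro n hn'
  obtain ⟨⟨⟨z, hz⟩, ⟨o', ho''⟩⟩, he⟩ := hO.2 (⟨n, hn'⟩ : ↥H)
  have he' : z * o' = (⟨n, hn'⟩ : ↥H) := he
  have h1 : o' = 1 := by
    have := ho''
    rw [SetLike.mem_coe, hO2, mem_bot] at this
    exact this
  rw [h1, mul_one] at he'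
  rcases mem_zpowers_two hww hz with h2 | h2
  · left
    rw [h2] at he'
    exact (congrArg Subtype.val he').symm
  · right
    rw [h2] at he'
    exact (congrArg Subtype.val he').symm

theorem four_dvd_of_perfect {B : Type*} [Group B] [Finite B] (hB : ⁅(⊤ : Subgroup B), (⊤ : Subgroup B)⁆ = ⊤)
    (h2 : 2 ∣ Nat.card B) : 4 ∣ Nat.card B := by
  have hp : Fact (Nat.Prime 2) := ⟨Nat.prime_two⟩
  by_contra h4
  obtain ⟨P⟩ : Nonempty (Sylow 2 B) := inferInstance
  obtain ⟨k, hk⟩ := P.isPGroup'.exists_card_eq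
  have hk1 : k < 2 := by
    by_contra hlt
    push Not at hlt
    apply h4
    have h5 : 2 ^ 2 ∣ Nat.card (P : Subgroup B) := hk ▸ pow_dvd_pow 2 hlt
    exact (h5.trans (card_subgroup_dvd_card _))
  have hPb : (P : Subgroup B) ≠ ⊥ := P.ne_bot_of_dvd_card h2
  have hcyc : IsCyclic P := by
    interval_cases k
    · exact absurd ((card_eq_one).mp (by simpa using hk)) hPb
    · exact isCyclic_of_prime_card (p := 2) (by simpa using hk)
  have hmin : (Nat.card B).minFac = 2 := (Nat.minFac_eq_two_iff _).2 h2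
  have h5 := IsCyclic.isComplement' hmin hcyc
  have h6 : (MonoidHom.transferSylow P (hcyc.normalizer_le_centralizer hmin)).ker = ⊤ := by
    rw [eq_top_iff, ← hB, commutator_le]
    intro x _ y _
    rw [MonoidHom.mem_ker, map_commutatorElement]
    have hc : IsMulCommutative P := hcyc.isMulCommutative
    exact commutatorElement_eq_one_iff_mul_comm.mpr (hc.is_comm.comm _ _)
  rw [h6] at h5
  exact hPb (isComplement'_top_left.mp h5)

/-- A perfect subgroup `Y` of `C` centralizing a subgroup `R` of index at most 2 of a Sylow 2-subgroup of `C` is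
trivial. -/
theorem eq_bot_of_perfect {G : Type u} [Group G] [Finite G]
    (hFT : ∀ (H : Type u) [Group H] [Finite H], Odd (Nat.card H) → Group.IsSolvable H) {C U R Y : Subgroup G}
    (hU : IsSyl U C) (hR : R ≤ U) (h2 : Nat.card ↥U ≤ 2 * Nat.card ↥R) (hY : Y ≤ C)
    (hc : ∀ y ∈ Y, ∀ r ∈ R, y * r = r * y) (hp : ⁅Y, Y⁆ = Y) : Y = ⊥ := by
  have : Fact (Nat.Prime 2) := ⟨Nat.prime_two⟩
  have hptop : ⁅(⊤ : Subgroup ↥Y), (⊤ : Subgroup ↥Y)⁆ = ⊤ := by
    apply Subgroup.map_injective (Subgroup.subtype_injective Y)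
    rw [Subgroup.map_commutator, ← MonoidHom.range_eq_map, Subgroup.range_subtype, hp]
  set N : Subgroup ↥Y := R.subgroupOf Y with hN
  have hNn : N.Normal := by
    refine ⟨?_⟩
    intro n hn g
    have h1 := hc g g.2 n (mem_subgroupOf.mp hn)
    have h3 : g * n = n * g := Subtype.ext h1
    rw [h3, mul_inv_cancel_right]; exact hn
  have hNp : IsPGroup 2 ↥N := (hU.two.to_le hR).comap_subtype
  -- the order of `Y / N`
  have h4 : ¬ 4 ∣ Nat.card (↥Y ⧸ N) := by
    intro h4
    obtain ⟨P⟩ : Nonempty (Sylow 2 ↥Y) := inferInstance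
    -- `P R` is a 2-group
    let P' : Subgroup G := (P : Subgroup ↥Y).map Y.subtype
    have hP' : IsPGroup 2 ↥P' := P.isPGroup'.map _
    have hP'Y : P' ≤ Y := map_subtype_le _
    have hsup : IsPGroup 2 ↥(P' ⊔ R) := by
      apply hP'.to_sup_of_normal_left' (hU.two.to_le hR)
      intro r hr
      rw [mem_normalizer_iff]
      intro x
      have key : ∀ y ∈ Y, r * y * r⁻¹ = y := by
        intro y hy
        rw [← hc y hy r hr, mul_inv_cancel_right]
      constructor
      · intro hx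
        rw [key x (hP'Y hx)]; exact hx
      · intro hx
        have h5 : r⁻¹ * (r * x * r⁻¹) * r = r * x * r⁻¹ := by
          have h6 := hc _ (hP'Y hx) r hr
          calc r⁻¹ * (r * x * r⁻¹) * r = r⁻¹ * ((r * x * r⁻¹) * r) := by group
            _ = r⁻¹ * (r * (r * x * r⁻¹)) := by rw [h6]
            _ = r * x * r⁻¹ := by group
        have h7 : x = r * x * r⁻¹ := by
          calc x = r⁻¹ * (r * x * r⁻¹) * r := by group
            _ = _ := h5
        rw [h7]; exact hx
    have h5 : Nat.card ↥(P' ⊔ R) ≤ Nat.card ↥U := hU.card_le hsup (sup_le (hP'Y.trans hY) (hR.trans hU.le))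
    have h6 : Nat.card ↥R * R.relIndex (P' ⊔ R) = Nat.card ↥(P' ⊔ R) := by
      have := card_mul_index (R.subgroupOf (P' ⊔ R))
      rwa [card_subgroupOf_of_le le_sup_right] at this
    have hRpos : 0 < Nat.card ↥R := Nat.card_pos
    have h7 : R.relIndex (P' ⊔ R) ≤ 2 := by
      by_contra hcon
      push Not at hcon
      have h8 : Nat.card ↥R * 3 ≤ Nat.card ↥R * R.relIndex (P' ⊔ R) := Nat.mul_le_mul_left _ hcon
      omega
    have h8 : R.relIndex P' ≤ 2 := by
      refine le_trans (relIndex_le_of_le_right le_sup_left ?_) h7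
      intro h0
      rw [h0, mul_zero] at h6
      exact (Nat.card_pos (α := ↥(P' ⊔ R))).ne h6
    have h9 : Nat.card ↥(R.subgroupOf P') * R.relIndex P' = Nat.card ↥P' := card_mul_index _
    have h10 : Nat.card ↥(R.subgroupOf P') ∣ Nat.card ↥N := by
      have e1 : Nat.card ↥(R.subgroupOf P') = Nat.card ↥(R ⊓ P') := by
        rw [← inf_subgroupOf_right, card_subgroupOf_of_le inf_le_right]
      have e2 : Nat.card ↥N = Nat.card ↥(R ⊓ Y) := by
        rw [hN, ← inf_subgroupOf_right, card_subgroupOf_of_le inf_le_right]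
      rw [e1, e2]
      exact card_dvd_of_le (inf_le_inf_left R hP'Y)
    have h11 : Nat.card ↥P' = Nat.card ↥(P : Subgroup ↥Y) := card_map_of_injective Y.subtype_injective
    -- `4 |N|` divides `|P|`
    obtain ⟨n, hn⟩ := IsPGroup.iff_card.mp hNp
    have h12 : 4 * Nat.card ↥N ∣ Nat.card ↥Y := by
      have h13 : Nat.card ↥N * N.index = Nat.card ↥Y := card_mul_index _
      have h14 : N.index = Nat.card (↥Y ⧸ N) := index_eq_card N
      rw [← h13, h14, mul_comm]
      exact Nat.mul_dvd_mul_left _ h4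
    have h15 : 4 * Nat.card ↥N ∣ Nat.card ↥(P : Subgroup ↥Y) := by
      rw [hn] at h12 ⊢
      have e : 4 * 2 ^ n = 2 ^ (n + 2) := by rw [pow_add]; ring
      rw [e] at h12 ⊢
      rw [P.card_eq_multiplicity]
      exact pow_dvd_pow _ ((Nat.Prime.pow_dvd_iff_le_factorization Nat.prime_two Nat.card_pos.ne').mp h12)
    have h16 := Nat.le_of_dvd Nat.card_pos h15
    have h17 := Nat.le_of_dvd Nat.card_pos h10
    rw [← h11, ← h9] at h16
    have h18 : Nat.card ↥(R.subgroupOf P') * R.relIndex P' ≤ Nat.card ↥N * 2 := Nat.mul_le_mul h17 h8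
    have hNpos : 0 < Nat.card ↥N := Nat.card_pos
    omega
  have hpq : ⁅(⊤ : Subgroup (↥Y ⧸ N)), (⊤ : Subgroup (↥Y ⧸ N))⁆ = ⊤ := by
    have h5 := congrArg (Subgroup.map (QuotientGroup.mk' N)) hptop
    rw [Subgroup.map_commutator, Subgroup.map_top_of_surjective _ (QuotientGroup.mk'_surjective N)] at h5
    exact h5
  have hodd : Odd (Nat.card (↥Y ⧸ N)) := by
    rw [← Nat.not_even_iff_odd]
    intro he
    exact h4 (four_dvd_of_perfect hpq (even_iff_two_dvd.mp he))
  have hs : Group.IsSolvable (↥Y ⧸ N) := hFT _ hodd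
  have htriv : (⊤ : Subgroup (↥Y ⧸ N)) = ⊥ := by
    obtain ⟨n, hn⟩ := hs.solvable
    have h5 : ∀ n, derivedSeries (↥Y ⧸ N) n = ⊤ := by
      intro n
      induction n with
      | zero => rfl
      | succ n ih => rw [derivedSeries_succ, ih, hpq]
    rw [h5 n] at hn
    exact hn
  have hNtop : N = ⊤ := by
    rw [eq_top_iff]
    intro y _
    have h5 : (QuotientGroup.mk' N y) ∈ (⊤ : Subgroup (↥Y ⧸ N)) := mem_top _
    rw [htriv, mem_bot] at h5
    have h6 : y ∈ (QuotientGroup.mk' N).ker := h5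
    rwa [QuotientGroup.ker_mk'] at h6
  have hYR : Y ≤ R := by
    intro y hy
    have h5 : (⟨y, hy⟩ : ↥Y) ∈ N := by rw [hNtop]; trivial
    exact mem_subgroupOf.mp h5
  rw [← hp, commutator_eq_bot_iff_le_centralizer]
  intro y hy
  rw [mem_centralizer_iff]
  intro z hz
  exact hc z hz y (hYR hy)

/-- `Cen` in terms of the big group -/
theorem cen_iff_syl {G : Type*} [Group G] {K : Subgroup G} (x : ↥K) :
    Cen x ↔ ∃ S : Subgroup G, IsSyl S K ∧ ∀ s ∈ S, s * x = x * s := by
  constructor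
  · rintro ⟨S, hS⟩
    refine ⟨_, isSyl_of_sylow S, ?_⟩
    rintro _ ⟨s, hs, rfl⟩
    exact congrArg Subtype.val (hS s hs)
  · rintro ⟨S, hS, hSx⟩
    obtain ⟨P, hP⟩ := hS.toSylow
    refine ⟨P, fun s hs => Subtype.ext ?_⟩
    have hs' : s ∈ (P : Subgroup ↥K) := hs
    rw [hP, mem_subgroupOf] at hs'
    exact hSx _ hs'

end Cfsg.Agent.OddHalf.D4.Spor

end

-- merged: Cfsg.Agent.OddHalf.D4.Spor.CaseTwo
section

/-!
# ODD half, D4, sporadic components: the case `|V| = 2`
-/

set_option autoImplicit false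

namespace Cfsg.Agent.OddHalf.D4.Spor

open Subgroup Cfsg Cfsg.Agent.OddHalf.D4 Cfsg.Agent.OddHalf.D4.Basic
open Cfsg.Agent.OddHalf.D4.CommConj (Tight cj mem_cj cj_mul card_cj cj_eq_of_mem_normalizer mem_normalizer_of_cj_eq
  mem_cj_mul)

variable {G : Type*} [Group G]

/-- `C(K)` contains a four-group -/
def R2 (K : Subgroup G) : Prop := ∃ a b : G, a ∈ centralizer (K : Set G) ∧ b ∈ centralizer (K : Set G) ∧
  orderOf a = 2 ∧ orderOf b = 2 ∧ a * b = b * a ∧ a ≠ b

theorem R2.cj {K : Subgroup G} (h : R2 K) (g : G) : R2 (CommConj.cj g K) := by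
  obtain ⟨a, b, ha, hb, ha2, hb2, hab, hne⟩ := h
  refine ⟨g * a * g⁻¹, g * b * g⁻¹, by rw [centralizer_cj]; exact mem_cj_mul ha,
    by rw [centralizer_cj]; exact mem_cj_mul hb, by rw [Basic.orderOf_conj]; exact ha2,
    by rw [Basic.orderOf_conj]; exact hb2, ?_, ?_⟩
  · calc g * a * g⁻¹ * (g * b * g⁻¹) = g * (a * b) * g⁻¹ := by group
      _ = g * (b * a) * g⁻¹ := by rw [hab]
      _ = g * b * g⁻¹ * (g * a * g⁻¹) := by group
  · intro he
    exact hne (mul_left_cancel (mul_right_cancel he))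

/-- a four-group in a Sylow 2-subgroup of `C(K)` -/
theorem R2.exists_in [Finite G] {K U : Subgroup G} (h : R2 K) (hU : IsSyl U (centralizer (K : Set G))) :
    ∃ a ∈ U, ∃ b ∈ U, a * a = 1 ∧ a ≠ 1 ∧ b * b = 1 ∧ b ≠ 1 ∧ a * b = b * a ∧ a ≠ b := by
  obtain ⟨a, b, ha, hb, ha2, hb2, hab, hne⟩ := h
  have hfour : IsPGroup 2 ↥(zpowers a ⊔ zpowers b) := by
    have h1 : IsPGroup 2 ↥(zpowers a) := by
      rw [IsPGroup.iff_card]; exact ⟨1, by rw [Nat.card_zpowers, ha2]; norm_num⟩
    have h2 : IsPGroup 2 ↥(zpowers b) := by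
      rw [IsPGroup.iff_card]; exact ⟨1, by rw [Nat.card_zpowers, hb2]; norm_num⟩
    apply h1.to_sup_of_normal_left' h2
    rw [zpowers_le, mem_normalizer_iff]
    have h3 : ∀ n : ℤ, b * a ^ n * b⁻¹ = a ^ n := by
      intro n
      have h4 : Commute b (a ^ n) := (Commute.zpow_right (show Commute b a from hab.symm) n)
      rw [h4.eq]; group
    intro x
    constructor
    · rintro ⟨n, rfl⟩
      exact ⟨n, (h3 n).symm⟩
    · rintro ⟨n, hn⟩
      refine ⟨n, ?_⟩
      have h5 : b * x * b⁻¹ = b * a ^ n * b⁻¹ := by rw [h3 n]; exact hn.symm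
      exact (mul_left_cancel (mul_right_cancel h5)).symm
  obtain ⟨m, hm, hmq⟩ := hU.conj_into hfour (sup_le (by rw [zpowers_le]; exact ha) (by rw [zpowers_le]; exact hb))
  have ha' := orderOf_two_iff.mp ((Basic.orderOf_conj m a).trans ha2)
  have hb' := orderOf_two_iff.mp ((Basic.orderOf_conj m b).trans hb2)
  refine ⟨m * a * m⁻¹, hmq a (mem_sup_left (mem_zpowers a)), m * b * m⁻¹, hmq b (mem_sup_right (mem_zpowers b)),
    ha'.1, ha'.2, hb'.1, hb'.2, ?_, ?_⟩
  · calc m * a * m⁻¹ * (m * b * m⁻¹) = m * (a * b) * m⁻¹ := by group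
      _ = m * (b * a) * m⁻¹ := by rw [hab]
      _ = m * b * m⁻¹ * (m * a * m⁻¹) := by group
  · intro he
    exact hne (mul_left_cancel (mul_right_cancel he))

/-- a group of order at most 4 with a four-group -/
theorem four_of_card [Finite G] {U : Subgroup G} {a b : G} (ha : a ∈ U) (hb : b ∈ U) (haa : a * a = 1) (ha1 : a ≠ 1)
    (hbb : b * b = 1) (hb1 : b ≠ 1) (hab : a * b = b * a) (hne : a ≠ b) :
    4 ≤ Nat.card ↥U ∧ (Nat.card ↥U ≤ 4 → ∀ u ∈ U, u = 1 ∨ u = a ∨ u = b ∨ u = a * b) := by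
  classical
  have h1 : a * b ≠ 1 := by
    intro h
    apply hne
    have h2 : a = b⁻¹ := eq_inv_of_mul_eq_one_left h
    have h3 : b⁻¹ = b := inv_eq_of_mul_eq_one_left hbb
    rw [h2, h3]
  have h2 : a * b ≠ a := fun h => hb1 (mul_eq_left.mp h)
  have h3 : a * b ≠ b := fun h => ha1 (mul_eq_right.mp h)
  have hsub : (({1, a, b, a * b} : Finset G) : Set G) ⊆ (U : Set G) := by
    intro x hx
    simp only [Finset.coe_insert, Finset.coe_singleton, Set.mem_insert_iff, Set.mem_singleton_iff] at hx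
    rcases hx with rfl | rfl | rfl | rfl
    · exact one_mem _
    · exact ha
    · exact hb
    · exact mul_mem ha hb
  have hcard : ({1, a, b, a * b} : Finset G).card = 4 := by
    rw [Finset.card_insert_of_notMem, Finset.card_insert_of_notMem, Finset.card_insert_of_notMem,
      Finset.card_singleton]
    · simp only [Finset.mem_singleton]; exact fun h => h3 h.symm
    · simp only [Finset.mem_insert, Finset.mem_singleton, not_or]
      exact ⟨hne, fun h => h2 h.symm⟩
    · simp only [Finset.mem_insert, Finset.mem_singleton, not_or]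
      exact ⟨fun h => ha1 h.symm, fun h => hb1 h.symm, fun h => h1 h.symm⟩
  have hU : (U : Set G).ncard = Nat.card ↥U := rfl
  have h4 : (({1, a, b, a * b} : Finset G) : Set G).ncard = 4 := by rw [Set.ncard_coe_finset, hcard]
  constructor
  · rw [← hU, ← h4]
    exact Set.ncard_le_ncard hsub (Set.toFinite _)
  · intro hle u hu
    have h5 : (({1, a, b, a * b} : Finset G) : Set G) = (U : Set G) := by
      apply Set.eq_of_subset_of_ncard_le hsub _ (Set.toFinite _)
      rw [hU, h4]; exact hle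
    have h6 : u ∈ (({1, a, b, a * b} : Finset G) : Set G) := by rw [h5]; exact hu
    simpa only [Finset.coe_insert, Finset.coe_singleton, Set.mem_insert_iff, Set.mem_singleton_iff] using h6

section Finite

variable [Finite G] {K L Q U : Subgroup G}

/-- `4 ∣ |V|`, or `|V| = 2` and `U` is a four-group -/
theorem card_V (h : FullPair K L Q U) (hK : Loc K)
    (hout : ¬ 4 ∣ (MulAut.conj : ↥K →* MulAut ↥K).range.index) (hr : R2 L) :
    4 ∣ Nat.card ↥(pr K U) ∨ (Nat.card ↥(pr K U) = 2 ∧ (∀ u ∈ U, u * u = 1) ∧ (∀ u ∈ U, ∀ v ∈ U, u * v = v * u) ∧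
      ∃ y ∈ U, y ∉ K ⊔ centralizer (K : Set G)) := by
  obtain ⟨a, ha, b, hb, haa, ha1, hbb, hb1, hab, hne⟩ := hr.exists_in h.sylU
  obtain ⟨h4, h4'⟩ := four_of_card ha hb haa ha1 hbb hb1 hab hne
  have hc := card_pr h hK
  have hU := card_U h hK hout
  obtain ⟨n, hn⟩ := IsPGroup.iff_card.mp (isPGroup_pr h hK)
  rcases n with _ | _ | n
  · exfalso
    rw [pow_zero] at hn
    rw [← hc, hn] at hU
    omega
  · right
    rw [zero_add, pow_one] at hn
    rw [← hc, hn] at hU
    have h5 : Nat.card ↥U ≤ 4 := by omega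
    have h6 := h4' h5
    refine ⟨hn, ?_, ?_, ?_⟩
    · intro u hu
      rcases h6 u hu with rfl | rfl | rfl | rfl
      · rw [one_mul]
      · exact haa
      · exact hbb
      · calc a * b * (a * b) = a * (b * a) * b := by group
          _ = a * (a * b) * b := by rw [hab]
          _ = (a * a) * (b * b) := by group
          _ = 1 := by rw [haa, hbb, one_mul]
    · intro u hu v hv
      have hca : ∀ v ∈ U, Commute a v := by
        intro v hv
        rcases h6 v hv with rfl | rfl | rfl | rfl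
        · exact Commute.one_right _
        · exact Commute.refl _
        · exact hab
        · exact (Commute.refl a).mul_right hab
      have hcb : ∀ v ∈ U, Commute b v := by
        intro v hv
        rcases h6 v hv with rfl | rfl | rfl | rfl
        · exact Commute.one_right _
        · exact hab.symm
        · exact Commute.refl _
        · exact (show Commute b a from hab.symm).mul_right (Commute.refl b)
      rcases h6 u hu with rfl | rfl | rfl | rfl
      · exact Commute.one_left v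
      · exact hca v hv
      · exact hcb v hv
      · exact (hca v hv).mul_left (hcb v hv)
    · by_contra hcon
      push Not at hcon
      have h7 : U ⊓ (K ⊔ centralizer (K : Set G)) = U := inf_eq_left.mpr hcon
      rw [h7, hn] at hc
      omega
  · left
    rw [hn]
    exact ⟨2 ^ n, by ring⟩

/-- **the case `|V| = 2`** -/
theorem case_two (h : FullPair K L Q U) (hK : Loc K) (hS : Sheet ↥K) (hV : Nat.card ↥(pr K U) = 2)
    (hsq : ∀ u ∈ U, u * u = 1) (hcomm : ∀ u ∈ U, ∀ v ∈ U, u * v = v * u) {y : G} (hy : y ∈ U)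
    (hyK : y ∉ K ⊔ centralizer (K : Set G)) : False := by
  -- the involution `w` of `V`
  have hVne : pr K U ≠ ⊥ := by
    intro h1; rw [h1, card_bot] at hV; omega
  obtain ⟨w, hwV, hw2⟩ := exists_invol_of_two (isPGroup_pr h hK) hVne
  obtain ⟨hww, hw1⟩ := orderOf_two_iff.mp hw2
  have hwB : w ∈ pr K (centralizer (L : Set G)) := pr_mono K h.sylU.le hwV
  obtain ⟨hwK, c, hc, hwc⟩ := hwV
  have hyN := h.leU hK.tight hK.even hy
  have hyL := h.sylU.le hy
  have hyy := hsq y hy
  have hy1 : y ≠ 1 := by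
    rintro rfl
    exact hyK (one_mem _)
  have hy2 : orderOf y = 2 := orderOf_two_iff.mpr ⟨hyy, hy1⟩
  -- `y` commutes with `w`
  have hyw : y * w * y⁻¹ = w := by
    have h1 : (y * w * y⁻¹) * (y * c * y⁻¹) = w * c := by
      have h2 := hcomm y hy (w * c) hwc
      calc (y * w * y⁻¹) * (y * c * y⁻¹) = (y * (w * c)) * y⁻¹ := by group
        _ = w * c := by rw [h2]; group
    exact (decomp_unique hK.cen ((mem_normalizer_iff.mp hyN w).mp hwK) (centralizer_conj_mem hyN hc) hwK hc h1).1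
  have hyw' : y * w = w * y := by
    calc y * w = (y * w * y⁻¹) * y := by group
      _ = w * y := by rw [hyw]
  set B := pr K (centralizer (L : Set G)) with hB
  have hBK : B ≤ K := pr_le _ _
  have hsylV := isSyl_pr h hK
  have hV2 : ∀ v ∈ pr K U, v = 1 ∨ v = w := by
    intro v hv
    have h1 : zpowers w = pr K U := by
      apply eq_of_le_of_card_ge
      · rw [zpowers_le]; exact ⟨hwK, c, hc, hwc⟩
      · rw [Nat.card_zpowers, hw2, hV]
    rw [← h1] at hv
    exact mem_zpowers_two hww hv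
  have hcen : ∀ {x : G}, x ∈ K → x * w = w * x → x ∈ normalizer (L : Set G) := fun hx hxw =>
    mem_normalizer_of_comm h hK hwB hww hw1 hx hxw
  -- Sylow subgroups of subgroups between `V` and `B`
  have hmod : ∀ M : Subgroup G, w ∈ M → M ≤ B → Nat.card ↥M % 4 = 2 := by
    intro M hwM hMB
    refine card_mod_four (hsylV.mono ?_ hMB) hV
    intro v hv
    rcases hV2 v hv with rfl | rfl
    · exact one_mem _
    · exact hwM
  let w' : ↥K := ⟨w, hwK⟩
  -- `C_B(w) = ⟨w⟩`
  have hCB : ∀ t ∈ B, t * w = w * t → t = 1 ∨ t = w := by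
    let H : Subgroup ↥K := (B ⊓ centralizer ({w} : Set G)).subgroupOf K
    have h1 := eq_of_bal (X := ↥K) (w := w') (Subtype.ext hww) (fun h1 => hw1 (congrArg Subtype.val h1))
      (hS.bal w' (Subtype.ext hww) (fun h1 => hw1 (congrArg Subtype.val h1))) (H := H)
      (mem_subgroupOf.mpr ⟨hwB, mem_centralizer_singleton_iff.mpr rfl⟩)
      (fun n hn => Subtype.ext (mem_centralizer_singleton_iff.mp (mem_subgroupOf.mp hn).2))
      (by
        intro x hx n hn
        obtain ⟨hn1, hn2⟩ := mem_subgroupOf.mp hn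
        have hx' : (x : G) * w = w * x := congrArg Subtype.val hx
        have hn2' := mem_centralizer_singleton_iff.mp hn2
        refine mem_subgroupOf.mpr ⟨pr_norm x.2 (hcen x.2 hx') hn1, mem_centralizer_singleton_iff.mpr ?_⟩
        show (x : G) * n * (x : G)⁻¹ * w = w * ((x : G) * n * (x : G)⁻¹)
        have hx1 : (x : G)⁻¹ * w = w * (x : G)⁻¹ := by
          calc (x : G)⁻¹ * w = (x : G)⁻¹ * (w * x) * (x : G)⁻¹ := by group
            _ = (x : G)⁻¹ * (x * w) * (x : G)⁻¹ := by rw [hx']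
            _ = w * (x : G)⁻¹ := by group
        calc (x : G) * n * (x : G)⁻¹ * w = (x : G) * n * ((x : G)⁻¹ * w) := by group
          _ = (x : G) * (n * w) * (x : G)⁻¹ := by rw [hx1]; group
          _ = (x : G) * w * n * (x : G)⁻¹ := by rw [hn2']; group
          _ = w * ((x : G) * n * (x : G)⁻¹) := by rw [hx']; group)
      (by
        show Nat.card ↥((B ⊓ centralizer ({w} : Set G)).subgroupOf K) % 4 = 2
        rw [card_subgroupOf_of_le (inf_le_left.trans hBK)]
        exact hmod _ ⟨hwB, mem_centralizer_singleton_iff.mpr rfl⟩ inf_le_left)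
    intro t ht htw
    rcases h1 ⟨t, hBK ht⟩ (mem_subgroupOf.mpr ⟨ht, mem_centralizer_singleton_iff.mpr htw⟩) with h2 | h2
    · left; exact congrArg Subtype.val h2
    · right; exact congrArg Subtype.val h2
  -- apply `out2`
  refine hS.out2 (act K hyN) (fun h1 => hyK ((inn_act_iff hyN).mp h1)) ?_ w' (Subtype.ext hww)
    (fun h1 => hw1 (congrArg Subtype.val h1)) (not_cen h hK hwB (Subtype.ext hww)
      (fun h1 => hw1 (congrArg Subtype.val h1))) (Subtype.ext hyw) ?_
    ((B ⊓ centralizer ({y} : Set G)).subgroupOf K) ?_ ?_ ?_ ?_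
  · ext x
    show y * (y * (x : G) * y⁻¹) * y⁻¹ = x
    have hyi : y⁻¹ = y := inv_eq_of_mul_eq_one_left hyy
    calc y * (y * (x : G) * y⁻¹) * y⁻¹ = (y * y) * x * (y⁻¹ * y⁻¹) := by group
      _ = x := by rw [hyi, hyy]; group
  · intro x hx
    have hx' : (x : G) * w = w * x := congrArg Subtype.val hx
    have hxL := hcen x.2 hx'
    obtain ⟨h1, h2⟩ := commutator_mem x.2 hxL hyL hyN
    set t := (x : G) * y * (x : G)⁻¹ * y⁻¹ with ht
    have htB : t ∈ B := mem_pr_of_mem h1 h2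
    have hyw2 : y⁻¹ * w = w * y⁻¹ := by
      calc y⁻¹ * w = y⁻¹ * (w * y) * y⁻¹ := by group
        _ = y⁻¹ * (y * w) * y⁻¹ := by rw [hyw']
        _ = w * y⁻¹ := by group
    have hx1 : (x : G)⁻¹ * w = w * (x : G)⁻¹ := by
      calc (x : G)⁻¹ * w = (x : G)⁻¹ * (w * x) * (x : G)⁻¹ := by group
        _ = (x : G)⁻¹ * (x * w) * (x : G)⁻¹ := by rw [hx']
        _ = w * (x : G)⁻¹ := by group
    have htw : t * w = w * t := by
      have e1 : Commute (x : G) w := hx'
      have e2 : Commute y w := hyw'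
      exact ((e1.mul_left e2).mul_left e1.inv_left).mul_left e2.inv_left
    have hval : y * (x : G) * y⁻¹ = t⁻¹ * x := by
      rw [ht]; group
    rcases hCB t htB htw with h3 | h3
    · left
      apply Subtype.ext
      rw [act_coe, hval, h3]; group
    · right
      apply Subtype.ext
      rw [act_coe, hval, h3]
      show w⁻¹ * (x : G) = w * x
      rw [inv_eq_of_mul_eq_one_left hww]
  · exact mem_subgroupOf.mpr ⟨hwB, mem_centralizer_singleton_iff.mpr hyw'.symm⟩
  · intro n hn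
    have hn2 := mem_centralizer_singleton_iff.mp (mem_subgroupOf.mp hn).2
    apply Subtype.ext
    rw [act_coe, ← hn2]; group
  · intro x hx n hn
    obtain ⟨hn1, hn2⟩ := mem_subgroupOf.mp hn
    have hn2' := mem_centralizer_singleton_iff.mp hn2
    have hxy : (x : G) * y = y * x := by
      have h1 : y * (x : G) * y⁻¹ = x := congrArg Subtype.val hx
      calc (x : G) * y = (y * (x : G) * y⁻¹) * y := by rw [h1]
        _ = y * x := by group
    have hxL : (x : G) ∈ normalizer (L : Set G) := (h.tightL hK.tight).mem hyL hy2 hxy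
    refine mem_subgroupOf.mpr ⟨pr_norm x.2 hxL hn1, mem_centralizer_singleton_iff.mpr ?_⟩
    have e1 : Commute (x : G) y := hxy
    have e2 : Commute (n : G) y := hn2'
    exact (e1.mul_left e2).mul_left e1.inv_left
  · rw [card_subgroupOf_of_le (inf_le_left.trans hBK)]
    exact hmod _ ⟨hwB, mem_centralizer_singleton_iff.mpr hyw'.symm⟩ inf_le_left

end Finite

end Cfsg.Agent.OddHalf.D4.Spor

end

-- merged: Cfsg.Agent.OddHalf.D4.Spor.Gam
section

/-!
# ODD half, D4, sporadic components: `J₁`, `Fi₂₃`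

All automorphisms are inner, and `gam`: a subgroup `D` containing `C(b)` for all the involutions `b` of a normal
subgroup `B` with two commuting involutions is the whole group. No other facts are needed.
-/

set_option autoImplicit false

namespace Cfsg.Agent.OddHalf.D4.Spor

open Subgroup Cfsg Cfsg.Agent.OddHalf.D4 Cfsg.Agent.OddHalf.D4.Basic
open Cfsg.Agent.OddHalf.D4.CommConj (Tight cj mem_cj cj_mul card_cj cj_eq_of_mem_normalizer mem_normalizer_of_cj_eq
  mem_cj_mul)

/-- The fact sheet of `J₁`, `Fi₂₃`. -/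
structure SheetG (X : Type*) [Group X] : Prop where
  inn : ∀ α : MulAut X, Inn α
  gam : ∀ B D : Subgroup X, (∀ b ∈ B, b * b = 1 → b ≠ 1 → ∀ c : X, c * b = b * c → c ∈ D) →
    (∀ d ∈ D, ∀ n ∈ B, d * n * d⁻¹ ∈ B) → ∀ x ∈ B, x * x = 1 → x ≠ 1 → ∀ x' ∈ B, x' * x' = 1 → x' ≠ 1 →
    x * x' = x' * x → x ≠ x' → D = ⊤

theorem SheetG.of_equiv {X Y : Type*} [Group X] [Group Y] (e : X ≃* Y) (h : SheetG X) : SheetG Y where
  inn := fun α => (inn_iff e).mp (h.inn _)
  gam := by
    intro B D hB hD x hx hxx hx1 x' hx' hxx' hx1' hc hne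
    have key : ∀ c : Y, c ≠ 1 → e.symm c ≠ 1 := by
      intro c hc h1
      apply hc
      rw [← e.apply_symm_apply c, h1, map_one]
    have h1 := h.gam (B.map e.symm.toMonoidHom) (D.map e.symm.toMonoidHom) (by
      intro b hb hbb hb1 c hc
      rw [mem_map_symm] at hb ⊢
      refine hB (e b) hb (by rw [← map_mul, hbb, map_one]) ?_ (e c) (by rw [← map_mul, hc, map_mul])
      intro h1
      apply hb1
      apply e.injective
      rw [h1, map_one]) (by
      intro d hd n hn
      rw [mem_map_symm] at hd hn ⊢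
      rw [map_mul, map_mul, map_inv]
      exact hD _ hd _ hn) (e.symm x) ⟨x, hx, rfl⟩ (by rw [← map_mul, hxx, map_one]) (key x hx1) (e.symm x')
      ⟨x', hx', rfl⟩ (by rw [← map_mul, hxx', map_one]) (key x' hx1') (by rw [← map_mul, hc, map_mul])
      (fun h1 => hne (e.symm.injective h1))
    rw [eq_top_iff]
    intro y _
    have h2 : e.symm y ∈ D.map e.symm.toMonoidHom := by rw [h1]; trivial
    rw [mem_map_symm, e.apply_symm_apply] at h2
    exact h2

variable {G : Type*} [Group G]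

section

variable [Finite G] {K : Subgroup G}

/-- (F1) if all automorphisms are inner -/
theorem inner_of_inn (hcen : ∀ x ∈ K, x ∈ centralizer (K : Set G) → x = 1) (hinn : ∀ α : MulAut ↥K, Inn α)
    {T : Subgroup G} (hT : IsSyl T (normalizer (K : Set G))) {y : G} (hy : y ∈ T)
    (hc : ∀ s ∈ T, s ∈ K → s * y = y * s) :
    ∃ k ∈ centralizer (K : Set G), ∃ s ∈ T, s ∈ K ∧ (∀ u ∈ T, u ∈ K → u * s = s * u) ∧ y = k * s := by
  obtain ⟨a, ha, c, hcC, rfl⟩ := exists_decomp ((inn_act_iff (hT.le hy)).mp (hinn _))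
  have hac : Commute a c := comm_of_cen ha hcC
  have hcomm : ∀ u ∈ T, u ∈ K → u * a = a * u := by
    intro u hu huK
    have h1 := hc u hu huK
    have h2 := comm_of_cen huK hcC
    have h3 : u * a * c = a * u * c := by
      calc u * a * c = u * (a * c) := by group
        _ = a * (c * u) := by rw [h1]; group
        _ = a * u * c := by rw [← h2]; group
    exact mul_right_cancel h3
  have hsyl : IsSyl (T ⊓ K) K := hT.inf le_normalizer hT.le
  -- `a` is a 2-element
  obtain ⟨n, hn⟩ := hT.two ⟨a * c, hy⟩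
  have h2 : (a * c) ^ 2 ^ n = 1 := congrArg Subtype.val hn
  rw [hac.mul_pow] at h2
  have han : a ^ 2 ^ n = 1 := by
    apply hcen _ (pow_mem ha _)
    rw [eq_inv_of_mul_eq_one_left h2]
    exact inv_mem (pow_mem hcC _)
  have hap : IsPGroup 2 ↥(zpowers a) := by
    rintro ⟨_, m, rfl⟩
    refine ⟨n, Subtype.ext ?_⟩
    show (a ^ m) ^ 2 ^ n = 1
    rw [← zpow_natCast, ← zpow_mul, mul_comm, zpow_mul, zpow_natCast, han, one_zpow]
  have hsup : IsPGroup 2 ↥((T ⊓ K) ⊔ zpowers a) := by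
    apply hsyl.two.to_sup_of_normal_left' hap
    rw [zpowers_le]
    apply mem_normalizer_fintype
    rintro x ⟨hxT, hxK⟩
    have : a * x * a⁻¹ = x := by rw [← hcomm x hxT hxK, mul_inv_cancel_right]
    rw [this]; exact ⟨hxT, hxK⟩
  have haT : a ∈ T := (hsyl.max _ hsup le_sup_left (sup_le inf_le_right (by rw [zpowers_le]; exact ha))
    (mem_sup_right (mem_zpowers a))).1
  exact ⟨c, hcC, a, haT, ha, hcomm, hac.eq⟩

/-- **existence of a full pair** if all automorphisms of `K` are inner -/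
theorem exists_fullPair_of_inn [IsSimpleGroup G] (h1173 : EvenPair.H1173 G) (hstd : IsStandardSubgroup K)
    (hcen : ∀ x ∈ K, x ∈ centralizer (K : Set G) → x = 1) (hinn : ∀ α : MulAut ↥K, Inn α) (hne : K ≠ ⊥)
    (hperf : ⁅K, K⁆ = K) : ∃ L Q U : Subgroup G, FullPair K L Q U := by
  have ht := EvenPair.tight_of_standard hstd
  have hcomm : ∀ k ∈ K, ∀ c ∈ centralizer (K : Set G), k * c = c * k :=
    fun k hk c hc => mem_centralizer_iff.mp hc k hk
  obtain ⟨g, hg, r, hr, hr2, hrg⟩ := EvenPair.exists_even h1173 ht hstd.2.1.1 hne hperf hcomm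
  obtain ⟨E, hE⟩ := ht.exists_maxE hg hr hr2 hrg
  obtain ⟨L, Q, U, hF, -, -⟩ := Exists.fullPair_of_maxE ht hcen (fun T hT y hy hc =>
    inner_of_inn hcen hinn hT hy hc) hE
  exact ⟨L, Q, U, hF⟩

/-- **the kill (GAM)** -/
theorem false_of_gam {L Q U : Subgroup G} (h : FullPair K L Q U) (hstd : IsStandardSubgroup K)
    (hs : IsSimpleGroup ↥K) (hcen : ∀ x ∈ K, x ∈ centralizer (K : Set G) → x = 1) (hr : R2 K)
    (hS : SheetG ↥K) : False := by
  have ht := EvenPair.tight_of_standard hstd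
  have hUN : U ≤ normalizer (K : Set G) := h.leU ht hstd.2.1.1
  have hrL : R2 L := by
    obtain ⟨g, _, rfl⟩ := h.conj
    exact hr.cj g
  obtain ⟨a, ha, b, hb, haa, ha1, hbb, hb1, hab, hne⟩ := hrL.exists_in h.sylU
  have key : ∀ u ∈ U, ∃ v ∈ K, ∃ c ∈ centralizer (K : Set G), u = v * c := fun u hu =>
    exists_decomp ((inn_act_iff (hUN hu)).mp (hS.inn _))
  obtain ⟨v, hv, c, hc, rfl⟩ := key a ha
  obtain ⟨w, hw, d, hd, rfl⟩ := key b hb
  have sq : ∀ {v c : G}, v ∈ K → c ∈ centralizer (K : Set G) → v * c * (v * c) = 1 → v * v = 1 := by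
    intro v c hv hc h1
    rw [decomp_mul hv hc] at h1
    refine (decomp_unique hcen (K.mul_mem hv hv) (mul_mem hc hc) K.one_mem (one_mem _) ?_).1
    rw [h1, one_mul]
  have ne : ∀ {v c : G}, v * c ∈ U → c ∈ centralizer (K : Set G) → v * c ≠ 1 → v ≠ 1 := by
    rintro v c hu hc h1 rfl
    rw [one_mul] at hu h1
    exact h1 (eq_one_of_mem h ht hu hc)
  have hvw : v * w = w * v := by
    refine (decomp_unique hcen (K.mul_mem hv hw) (mul_mem hc hd) (K.mul_mem hw hv) (mul_mem hd hc) ?_).1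
    rw [← decomp_mul hw hc, ← decomp_mul hv hd, hab]
  have hvne : v ≠ w := by
    rintro rfl
    apply hne
    have h3 : (v * c)⁻¹ * (v * d) ∈ U := U.mul_mem (U.inv_mem ha) hb
    have h4 : (v * c)⁻¹ * (v * d) = c⁻¹ * d := by group
    have h5 := eq_one_of_mem h ht h3 (by rw [h4]; exact mul_mem (inv_mem hc) hd)
    exact (inv_mul_eq_one.mp h5)
  -- `D = K ∩ N(L)` is `K`
  have hD := hS.gam ((pr K (centralizer (L : Set G))).subgroupOf K) ((normalizer (L : Set G)).subgroupOf K) (by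
      intro b hb hbb hb1 c hc
      rw [mem_subgroupOf] at hb ⊢
      exact mem_normalizer_of_comm' h ht hcen hb (by rw [← Subgroup.coe_mul, hbb]; rfl)
        (fun h1 => hb1 (Subtype.ext h1)) c.2 (congrArg Subtype.val hc)) (by
      intro d hd n hn
      rw [mem_subgroupOf] at hd hn ⊢
      exact pr_norm d.2 hd hn) ⟨v, hv⟩ (mem_subgroupOf.mpr ⟨hv, c, hc, h.sylU.le ha⟩)
    (Subtype.ext (sq hv hc haa)) (fun h1 => ne ha hc ha1 (congrArg Subtype.val h1)) ⟨w, hw⟩
    (mem_subgroupOf.mpr ⟨hw, d, hd, h.sylU.le hb⟩) (Subtype.ext (sq hw hd hbb))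
    (fun h1 => ne hb hd hb1 (congrArg Subtype.val h1)) (Subtype.ext hvw)
    (fun h1 => hvne (congrArg Subtype.val h1))
  have hKN : K ≤ normalizer (L : Set G) := by
    intro x hx
    have h1 : (⟨x, hx⟩ : ↥K) ∈ (normalizer (L : Set G)).subgroupOf K := by rw [hD]; trivial
    exact mem_subgroupOf.mp h1
  -- `K ∩ C(L)` is normal in `K`
  have hn : ((centralizer (L : Set G)).subgroupOf K).Normal := by
    refine ⟨?_⟩
    intro n hn g
    rw [mem_subgroupOf] at hn ⊢
    exact centralizer_conj_mem (hKN g.2) hn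
  rcases hn.eq_bot_or_eq_top with h1 | h1
  · -- `[K, U] = 1`
    have hUC : v * c ∈ centralizer (K : Set G) := by
      rw [mem_centralizer_iff]
      intro x hx
      obtain ⟨h2, h3⟩ := commutator_mem hx (hKN hx) (h.sylU.le ha) (hUN ha)
      have h4 : (⟨x * (v * c) * x⁻¹ * (v * c)⁻¹, h2⟩ : ↥K) ∈ (centralizer (L : Set G)).subgroupOf K :=
        mem_subgroupOf.mpr h3
      rw [h1, mem_bot] at h4
      have h5 : x * (v * c) * x⁻¹ * (v * c)⁻¹ = 1 := congrArg Subtype.val h4
      calc x * (v * c) = (x * (v * c) * x⁻¹ * (v * c)⁻¹) * ((v * c) * x) := by group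
        _ = v * c * x := by rw [h5, one_mul]
    exact ha1 (eq_one_of_mem h ht ha hUC)
  · -- `[K, L] = 1`
    obtain ⟨g, hg, rfl⟩ := h.conj
    apply hstd.2.2.1 g (fun h2 => hg (mem_normalizer_of_cj_eq h2))
    rw [commutator_eq_bot_iff_le_centralizer]
    intro x hx
    have h2 : (⟨x, hx⟩ : ↥K) ∈ (centralizer ((cj g K : Subgroup G) : Set G)).subgroupOf K := by rw [h1]; trivial
    exact mem_subgroupOf.mp h2

end

end Cfsg.Agent.OddHalf.D4.Spor

end
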