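import Mathlib
import Cfsg.Agent.OddHalf.D4.Spor.Gam
import Cfsg.Agent.OddHalf.D4.Start

-- merged: Cfsg.Agent.OddHalf.D4.Spor.Kill
section

/-!
# ODD half, D4, sporadic components: the kill

`false_of_sheet`: a full pair `K`, `L` with the sheet of `K` is impossible.
-/

set_option autoImplicit false

namespace Cfsg.Agent.OddHalf.D4.Spor

open Subgroup Cfsg Cfsg.Agent.OddHalf.D4 Cfsg.Agent.OddHalf.D4.Basic
open Cfsg.Agent.OddHalf.D4.CommConj (Tight cj mem_cj cj_mul card_cj cj_eq_of_mem_normalizer mem_normalizer_of_cj_eq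
  mem_cj_mul)

universe u

variable {G : Type u} [Group G]

/-- `l` is 2-central in `E` -/
def CenIn (l : G) (E : Subgroup G) : Prop := ∃ S : Subgroup G, IsSyl S E ∧ ∀ s ∈ S, s * l = l * s

/-- `SwapIn` in the big group -/
def SwapG (K V E : Subgroup G) : Prop :=
  ∃ v ∈ V, v ≠ 1 ∧ v ∈ E ∧ ∃ v' ∈ V, ∃ c ∈ K, c * v = v * c ∧ c * v' * c⁻¹ * v'⁻¹ = v

/-- `Sig` in the big group -/
structure SigG (K V E : Subgroup G) : Prop where
  conj : ∀ v ∈ V, v * v = 1 → v ≠ 1 → ∃ k ∈ K, ∃ l ∈ E, l ≠ 1 ∧ k * v * k⁻¹ = v * l ∧ CenIn l E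
  cen : ∀ l ∈ E, l * l = 1 → l ≠ 1 → CenIn l E → CenIn l K

/-- `VFacts` in the big group -/
structure VFactsG (K V E : Subgroup G) : Prop where
  le : E ≤ K
  perf : ⁅E, E⁆ = E
  cent : ∀ l ∈ E, ∀ v ∈ V, l * v = v * l
  max : ∀ P : Subgroup G, P ≤ K → ⁅P, P⁆ = P → (∀ l ∈ P, ∀ v ∈ V, l * v = v * l) → P ≤ E
  kill : SwapG K V E ∨ SigG K V E

/-- `VFacts` for a subgroup -/
theorem vFactsG_of {K V : Subgroup G} (hV : V ≤ K) {E : Subgroup ↥K} (h : VFacts (V.subgroupOf K) E) :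
    VFactsG K V (E.map K.subtype) := by
  have hle : E.map K.subtype ≤ K := map_subtype_le E
  -- `Cen` in `E` and in its image
  let f : ↥E ≃* ↥(E.map K.subtype) := E.equivMapOfInjective K.subtype K.subtype_injective
  have hf : ∀ l : ↥E, ((f l : ↥(E.map K.subtype)) : G) = ((l : ↥K) : G) := fun l =>
    E.coe_equivMapOfInjective_apply _ K.subtype_injective l
  have hcen : ∀ l : ↥E, Cen l ↔ CenIn ((l : ↥K) : G) (E.map K.subtype) := by
    intro l
    rw [← cen_iff f, cen_iff_syl, hf]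
    rfl
  refine ⟨hle, ?_, ?_, ?_, ?_⟩
  · rw [← Subgroup.map_commutator, h.perf]
  · rintro _ ⟨l, hl, rfl⟩ v hv
    exact congrArg Subtype.val (h.cent l hl ⟨v, hV hv⟩ (mem_subgroupOf.mpr hv))
  · intro P hPK hPP hPV
    have h1 : ⁅P.subgroupOf K, P.subgroupOf K⁆ = P.subgroupOf K := by
      apply Subgroup.map_injective (Subgroup.subtype_injective _)
      rw [Subgroup.map_commutator, subgroupOf_map_subtype, inf_eq_left.mpr hPK, hPP]
    have h2 := h.max (P.subgroupOf K) h1 (fun l hl v hv =>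
      Subtype.ext (hPV l (mem_subgroupOf.mp hl) v (mem_subgroupOf.mp hv)))
    intro x hx
    exact ⟨⟨x, hPK hx⟩, h2 (mem_subgroupOf.mpr hx), rfl⟩
  · rcases h.kill with h1 | h1
    · left
      obtain ⟨v, hv, hv1, hvE, v', hv', c, hc, hcc⟩ := h1
      exact ⟨v, mem_subgroupOf.mp hv, fun h2 => hv1 (Subtype.ext h2), ⟨v, hvE, rfl⟩, v', mem_subgroupOf.mp hv',
        c, c.2, congrArg Subtype.val hc, congrArg Subtype.val hcc⟩
    · right
      refine ⟨?_, ?_⟩
      · intro v hv hvv hv1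
        obtain ⟨k, l, hl1, hk, hl⟩ := h1.conj ⟨v, hV hv⟩ (mem_subgroupOf.mpr hv) (Subtype.ext hvv)
          (fun h2 => hv1 (congrArg Subtype.val h2))
        refine ⟨k, k.2, ((l : ↥K) : G), ⟨l, l.2, rfl⟩, fun h2 => hl1 (Subtype.ext h2), congrArg Subtype.val hk,
          (hcen l).mp hl⟩
      · rintro _ ⟨l, hl, rfl⟩ hll hl1 hlc
        have h2 := h1.cen ⟨l, hl⟩ (Subtype.ext (Subtype.ext hll)) (by
          intro h2
          apply hl1
          have : l = 1 := congrArg Subtype.val h2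
          rw [this]; rfl) ((hcen ⟨l, hl⟩).mpr hlc)
        exact (cen_iff_syl l).mp h2

section Finite

variable [Finite G] {K L Q U : Subgroup G}

/-- **(b)** `E ≤ L` -/
theorem le_L (hFT : ∀ (H : Type u) [Group H] [Finite H], Odd (Nat.card H) → Group.IsSolvable H)
    (h : FullPair K L Q U) (hK : Loc K) (hL : Loc L)
    (hsch : ∀ P : Subgroup (MulAut ↥L), ⁅P, P⁆ = P → P ≤ (MulAut.conj : ↥L →* MulAut ↥L).range)
    (hout : ¬ 4 ∣ (MulAut.conj : ↥K →* MulAut ↥K).range.index) (h4 : 4 ∣ Nat.card ↥(pr K U)) {E : Subgroup G}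
    (hEK : E ≤ K) (hEE : ⁅E, E⁆ = E) (hEV : ∀ l ∈ E, ∀ v ∈ pr K U, l * v = v * l) : E ≤ L := by
  have hVne : pr K U ≠ ⊥ := by
    intro h1; rw [h1, card_bot] at h4; omega
  obtain ⟨w, hwV, hw2⟩ := exists_invol_of_two (isPGroup_pr h hK) hVne
  obtain ⟨hww, hw1⟩ := orderOf_two_iff.mp hw2
  have hwB : w ∈ pr K (centralizer (L : Set G)) := pr_mono K h.sylU.le hwV
  have hEN : E ≤ normalizer (L : Set G) := fun e he =>
    mem_normalizer_of_comm h hK hwB hww hw1 (hEK he) (hEV e he w hwV)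
  have hEL := le_sup_of_perfect hsch hEN hEE
  obtain ⟨π, hπ, hπ'⟩ := exists_proj hL.cen
  let Y : Subgroup G := (E.subgroupOf (L ⊔ centralizer (L : Set G))).map π
  have hYY : ⁅Y, Y⁆ = Y := by
    have h3 : ⁅E.subgroupOf (L ⊔ centralizer (L : Set G)), E.subgroupOf (L ⊔ centralizer (L : Set G))⁆
        = E.subgroupOf (L ⊔ centralizer (L : Set G)) := by
      apply Subgroup.map_injective (Subgroup.subtype_injective _)
      rw [Subgroup.map_commutator, subgroupOf_map_subtype, inf_eq_left.mpr hEL, hEE]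
    show ⁅(E.subgroupOf _).map π, (E.subgroupOf _).map π⁆ = _
    rw [← Subgroup.map_commutator, h3]
  have hYC : Y ≤ centralizer (L : Set G) := by
    rintro _ ⟨e, _, rfl⟩
    exact hπ e
  have hYR : ∀ y ∈ Y, ∀ r ∈ U ⊓ (K ⊔ centralizer (K : Set G)), y * r = r * y := by
    rintro _ ⟨e, he, rfl⟩ r ⟨hrU, hrK⟩
    obtain ⟨l, hl, hle⟩ := hπ' e
    refine comm_of_decomp hl hle (h.sylU.le hrU) ?_
    obtain ⟨v, hv, c, hc, rfl⟩ := exists_decomp hrK
    have heE : (e : G) ∈ E := mem_subgroupOf.mp he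
    have h1 := hEV e heE v ⟨hv, c, hc, hrU⟩
    have h2 := comm_of_cen (hEK heE) hc
    calc (e : G) * (v * c) = (e * v) * c := by group
      _ = v * (e * c) := by rw [h1]; group
      _ = v * c * e := by rw [h2]; group
  have hcard : Nat.card ↥U ≤ 2 * Nat.card ↥(U ⊓ (K ⊔ centralizer (K : Set G))) := by
    rcases card_U h hK hout with h1 | h1
    · have : 0 < Nat.card ↥(U ⊓ (K ⊔ centralizer (K : Set G))) := Nat.card_pos
      omega
    · exact h1.le
  have hY1 := eq_bot_of_perfect hFT h.sylU inf_le_left hcard hYC hYR hYY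
  intro e he
  obtain ⟨l, hl, hle⟩ := hπ' ⟨e, hEL he⟩
  have h3 : π ⟨e, hEL he⟩ ∈ Y := ⟨⟨e, hEL he⟩, mem_subgroupOf.mpr he, rfl⟩
  rw [hY1, mem_bot] at h3
  rw [h3, mul_one] at hle
  have h5 : e = l := hle
  rw [h5]; exact hl

omit [Finite G] in
/-- **(c)** elements of `K ∩ L` commute with `pr L Q` -/
theorem comm_prL (h : FullPair K L Q U) {e v : G} (heK : e ∈ K) (heL : e ∈ L) (hv : v ∈ pr L Q) :
    e * v = v * e := by
  obtain ⟨_, c, hc, hvc⟩ := hv
  have h1 := comm_of_cen heL hc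
  have h2 := comm_of_cen heK (h.sylQ.le hvc)
  have h3 : (e * v) * c = (v * e) * c := by
    calc (e * v) * c = e * (v * c) := by group
      _ = v * c * e := h2
      _ = v * (e * c) := by rw [h1]; group
      _ = (v * e) * c := by group
  exact mul_right_cancel h3

/-- **(d)** the kill by a swap -/
theorem swap_false (h : FullPair K L Q U) (hK : Loc K) (hL : Loc L) {E : Subgroup G} (hEL : E ≤ L)
    (hs : SwapG K (pr K U) E) : False := by
  obtain ⟨v, hvV, hv1, hvE, v', hv'V, c, hcK, hcv, hcc⟩ := hs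
  -- `c ∈ N(L)`
  have hcN : c ∈ normalizer (L : Set G) := by
    have h2 : IsPGroup 2 ↥(zpowers v) := (isPGroup_pr h hK).to_le (by rw [zpowers_le]; exact hvV)
    obtain ⟨w, hwv, hw2⟩ := exists_invol_of_two h2 (fun h3 => hv1 (zpowers_eq_bot.mp h3))
    obtain ⟨hww, hw1⟩ := orderOf_two_iff.mp hw2
    have hwV : w ∈ pr K U := (by rw [zpowers_le]; exact hvV : zpowers v ≤ pr K U) hwv
    refine mem_normalizer_of_comm h hK (pr_mono K h.sylU.le hwV) hww hw1 hcK ?_
    obtain ⟨n, rfl⟩ := mem_zpowers_iff.mp hwv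
    exact (show Commute c v from hcv).zpow_right n
  obtain ⟨hv'K, c', hc', hvc'⟩ := hv'V
  obtain ⟨_, h2⟩ := commutator_mem hcK hcN (h.sylU.le hvc') (h.leU hK.tight hK.even hvc')
  have e : c * (v' * c') * c⁻¹ * (v' * c')⁻¹ = v := by
    have h3 := comm_of_cen (K.inv_mem hcK) hc'
    calc c * (v' * c') * c⁻¹ * (v' * c')⁻¹ = c * v' * (c' * c⁻¹) * c'⁻¹ * v'⁻¹ := by group
      _ = c * v' * c⁻¹ * v'⁻¹ := by rw [← h3]; group
      _ = v := hcc
  rw [e] at h2
  exact hv1 (hL.cen v (hEL hvE) h2)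

/-- **(e)** the kill by one element -/
theorem sig_false (h : FullPair K L Q U) (hK : Loc K) (hL : Loc L) {E : Subgroup G} (hEK : E ≤ K) (hEL : E ≤ L)
    (hEV : ∀ l ∈ E, ∀ v ∈ pr K U, l * v = v * l) (hne : pr K U ≠ ⊥)
    (hconj : ∀ v ∈ pr K U, v * v = 1 → v ≠ 1 → ∃ k ∈ K, ∃ l ∈ E, l ≠ 1 ∧ k * v * k⁻¹ = v * l ∧ CenIn l E)
    (hcen : ∀ l ∈ E, l * l = 1 → l ≠ 1 → CenIn l E → CenIn l L) : False := by
  -- an involution of `Z(U)` in `K C(K)`
  have hR : U ⊓ (K ⊔ centralizer (K : Set G)) ≠ ⊥ := by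
    intro h1
    apply hne
    rw [← card_eq_one, card_pr h hK, h1, card_bot]
  have hUN := h.leU hK.tight hK.even
  obtain ⟨u, ⟨huU, huK⟩, hu2, huc⟩ := Basic.exists_central_invol h.sylU.two (N := U ⊓ (K ⊔ centralizer (K : Set G)))
    inf_le_left hR (by
      rintro t ht n ⟨hnU, hnK⟩
      refine ⟨U.mul_mem (U.mul_mem ht hnU) (U.inv_mem ht), ?_⟩
      obtain ⟨k, hk, c, hc, rfl⟩ := exists_decomp hnK
      have e : t * (k * c) * t⁻¹ = (t * k * t⁻¹) * (t * c * t⁻¹) := by group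
      rw [e]
      exact mul_mem_sup ((mem_normalizer_iff.mp (hUN ht) k).mp hk) (centralizer_conj_mem (hUN ht) hc))
  obtain ⟨huu, hu1⟩ := orderOf_two_iff.mp hu2
  obtain ⟨v, hvK, c, hc, rfl⟩ := exists_decomp huK
  have hvV : v ∈ pr K U := ⟨hvK, c, hc, huU⟩
  have hvc := comm_of_cen hvK hc
  have hvv : v * v = 1 := by
    have h1 : (v * v) * (c * c) = 1 * 1 := by
      calc (v * v) * (c * c) = v * (v * c) * c := by group
        _ = v * (c * v) * c := by rw [hvc]
        _ = v * c * (v * c) := by group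
        _ = 1 * 1 := by rw [huu, one_mul]
    exact (decomp_unique hK.cen (K.mul_mem hvK hvK) (mul_mem hc hc) K.one_mem (one_mem _) h1).1
  have hv1 : v ≠ 1 := by
    rintro rfl
    rw [one_mul] at huU hu1
    exact hu1 (eq_one_of_mem h hK.tight huU hc)
  obtain ⟨k, hkK, l, hlE, hl1, hkv, hlc⟩ := hconj v hvV hvv hv1
  have hlv : l * v = v * l := hEV l hlE v hvV
  have hll : l * l = 1 := by
    have h1 : (v * l) * (v * l) = 1 := by
      rw [← hkv]
      calc k * v * k⁻¹ * (k * v * k⁻¹) = k * (v * v) * k⁻¹ := by group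
        _ = 1 := by rw [hvv]; group
    calc l * l = (v * v) * (l * l) := by rw [hvv, one_mul]
      _ = v * (v * l) * l := by group
      _ = v * (l * v) * l := by rw [hlv]
      _ = (v * l) * (v * l) := by group
      _ = 1 := h1
  obtain ⟨SL, hSL, hSLl⟩ := hcen l hlE hll hl1 hlc
  have hlL := hEL hlE
  have huL := h.sylU.le huU
  -- `k u k⁻¹ = u l`
  have hku : k * (v * c) * k⁻¹ = v * c * l := by
    have h1 := comm_of_cen (K.inv_mem hkK) hc
    have h2 := comm_of_cen (hEK hlE) hc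
    calc k * (v * c) * k⁻¹ = k * v * (c * k⁻¹) := by group
      _ = (k * v * k⁻¹) * c := by rw [← h1]; group
      _ = v * (l * c) := by rw [hkv]; group
      _ = v * c * l := by rw [h2]; group
  have hkN : k ∉ normalizer (L : Set G) := by
    intro hk
    have h1 := centralizer_conj_mem hk huL
    rw [hku] at h1
    have h2 : l ∈ centralizer (L : Set G) := by
      have e : l = (v * c)⁻¹ * (v * c * l) := by group
      rw [e]; exact mul_mem (inv_mem huL) h1
    exact hl1 (hL.cen l hlL h2)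
  have hulC : v * c * l ∈ centralizer ((CommConj.cj k L : Subgroup G) : Set G) := by
    rw [centralizer_cj, ← hku]; exact mem_cj_mul huL
  have hul2 : orderOf (v * c * l) = 2 := by
    rw [← hku, Basic.orderOf_conj]; exact hu2
  have hmem : ∀ x : G, x * (v * c) = (v * c) * x → x * l = l * x → x ∈ CommConj.cj k (normalizer (L : Set G)) := by
    intro x h1 h2
    rw [← normalizer_cj]
    apply (TightAt.cj hL.tight k).mem hulC hul2
    calc x * (v * c * l) = (x * (v * c)) * l := by group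
      _ = v * c * (x * l) := by rw [h1]; group
      _ = v * c * l * x := by rw [h2]; group
  refine no_big hL hkN h.sylU hSL ?_ ?_
  · intro x hx
    exact hmem x (huc x hx) (comm_of_cen hlL (h.sylU.le hx)).symm
  · intro x hx
    exact hmem x (comm_of_cen (hSL.le hx) huL) (hSLl x hx)

/-- **The kill**: a full pair with the sheet of `K` is impossible. -/
theorem false_of_sheet (hFT : ∀ (H : Type u) [Group H] [Finite H], Odd (Nat.card H) → Group.IsSolvable H)
    (h : FullPair K L Q U) (hK : Loc K) (hS : Sheet ↥K) (hr : R2 K) : False := by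
  have hLdat : Loc L ∧ Sheet ↥L ∧ R2 L := by
    obtain ⟨g, hg, rfl⟩ := h.conj
    exact ⟨loc_cj hK g, sheet_cj hS g, hr.cj g⟩
  obtain ⟨hL, hSL, hrL⟩ := hLdat
  have h' := h.symm
  rcases card_V h hK hS.out hrL with h4 | ⟨hV, hsq, hcomm, y, hy, hyK⟩
  swap
  · exact case_two h hK hS hV hsq hcomm hy hyK
  rcases card_V h' hL hSL.out hr with h4' | ⟨hV, hsq, hcomm, y, hy, hyK⟩
  swap
  · exact case_two h' hL hSL hV hsq hcomm hy hyK
  -- the facts for both
  have facts : ∀ {K L Q U : Subgroup G}, FullPair K L Q U → Loc K → Sheet ↥K → R2 L → 4 ∣ Nat.card ↥(pr K U) →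
      ∃ E : Subgroup G, VFactsG K (pr K U) E := by
    intro K L Q U h hK hS hrL h4
    have hsyl := isSyl_pr h hK
    have hB4 : 4 ∣ Nat.card ↥(pr K (centralizer (L : Set G))) := h4.trans (card_dvd_of_le hsyl.le)
    obtain ⟨E, hE⟩ := hS.tab _ _ (badB h hK hB4 (hrL.exists_in h.sylU)) ((pr K U).subgroupOf K) (by
      intro x hx
      exact mem_subgroupOf.mpr (hsyl.le (mem_subgroupOf.mp hx))) (isPGroup_pr h hK).comap_subtype (by
      intro P hP hVP hPB
      have h1 := hsyl.max (P.map K.subtype) (hP.map _) (by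
        intro v hv
        exact ⟨⟨v, pr_le _ _ hv⟩, hVP (mem_subgroupOf.mpr hv), rfl⟩) (by
        rintro _ ⟨p, hp, rfl⟩
        exact mem_subgroupOf.mp (hPB hp))
      apply le_antisymm _ hVP
      intro p hp
      exact mem_subgroupOf.mpr (h1 ⟨p, hp, rfl⟩)) (by
      rw [card_subgroupOf_of_le (pr_le _ _)]; exact h4)
    exact ⟨_, vFactsG_of (pr_le _ _) hE⟩
  obtain ⟨E, hE⟩ := facts h hK hS hrL h4
  obtain ⟨E', hE'⟩ := facts h' hL hSL hr h4'
  have hEL : E ≤ L := le_L hFT h hK hL hSL.schreier hS.out h4 hE.le hE.perf hE.cent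
  have hE'K : E' ≤ K := le_L hFT h' hL hK hS.schreier hSL.out h4' hE'.le hE'.perf hE'.cent
  have h1 : E ≤ E' := hE'.max E hEL hE.perf (fun l hl v hv => comm_prL h (hE.le hl) (hEL hl) hv)
  have h2 : E' ≤ E := hE.max E' hE'K hE'.perf (fun l hl v hv => comm_prL h' (hE'.le hl) (hE'K hl) hv)
  have h3 : E' = E := le_antisymm h2 h1
  subst h3
  rcases hE.kill with hk | hk
  · exact swap_false h hK hL hEL hk
  rcases hE'.kill with hk' | hk'
  · exact swap_false h' hL hK hE'K hk'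
  refine sig_false h hK hL hE.le hEL hE.cent ?_ hk.conj hk'.cen
  intro h5
  rw [h5, card_bot] at h4
  omega

end Finite

end Cfsg.Agent.OddHalf.D4.Spor

end

-- merged: Cfsg.Agent.OddHalf.D4.Spor.Row
section

/-!
# ODD half, D4: the rows from the sheets

`row_of_sheet`: `Cut.Row1 P` from `Sheet` for all groups with `P`. `rowsSpor`: `Cut.RowsSpor` from the sheets.
-/

set_option autoImplicit false

namespace Cfsg.Agent.OddHalf.D4.Spor

open Subgroup Cfsg Cfsg.Agent.OddHalf Cfsg.Agent.OddHalf.D4 Cfsg.Agent.OddHalf.D4.Basic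

universe u

/-- the odd order theorem (S0205) -/
def FTT : Prop := ∀ (H : Type u) [Group H] [Finite H], Odd (Nat.card H) → Group.IsSolvable H

/-- one central involution excludes strongly embedded subgroups (`NoSE.lean`) -/
def PSE : Prop := ∀ (X : Type u) [Group X] [Finite X] [IsSimpleGroup X], (∃ a b : X, a * b ≠ b * a) →
  (∀ S : Sylow 2 X, ∀ a ∈ S, a * a = 1 → a ≠ 1 → (∀ s ∈ S, s * a = a * s) →
    ∀ b ∈ S, b * b = 1 → b ≠ 1 → (∀ s ∈ S, s * b = b * s) → a = b) → NoSE X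

theorem exists_not_comm {G : Type u} [Group G] {K : Subgroup G} (h : Iface.Std0 G K) :
    ∃ a b : ↥K, a * b ≠ b * a := by
  by_contra hcon
  push Not at hcon
  apply h.quo_na
  refine ⟨⟨?_⟩⟩
  intro a b
  induction a using QuotientGroup.induction_on with
  | H a =>
    induction b using QuotientGroup.induction_on with
    | H b =>
      rw [← QuotientGroup.mk_mul, ← QuotientGroup.mk_mul, hcon a b]

theorem cen_of_center {G : Type u} [Group G] {K : Subgroup G} (hz : center ↥K = ⊥) :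
    ∀ x ∈ K, x ∈ centralizer (K : Set G) → x = 1 := by
  intro x hx hxc
  have h1 : (⟨x, hx⟩ : ↥K) ∈ center ↥K := by
    rw [mem_center_iff]
    intro y
    exact Subtype.ext (mem_centralizer_iff.mp hxc y y.2)
  rw [hz, mem_bot] at h1
  exact congrArg Subtype.val h1

/-- **A row from the sheets.** -/
theorem row_of_sheet (h1173 : Start.P1173.{u}) (hFT : FTT.{u}) (hse : PSE.{u})
    {P : (K : Type u) → [Group K] → Prop}
    (hS : ∀ (X : Type u) [Group X] [Finite X] [IsSimpleGroup X], P X → Sheet X) : Cut.Row1.{u} P := by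
  intro G _ hG K hK hrk hz hP
  have := hG.fin
  have := Start.isSimple_of_center hK.simple hz
  have hSK := hS ↥K hP
  have hF := hSK.autFacts hz (hse ↥K (exists_not_comm hK.toStd0) hSK.z1)
  have hD := Start.data hG hK hrk hz hF (h1173 G)
  obtain ⟨L, Q, U, hp⟩ := hD.pair
  exact false_of_sheet hFT hp hD.loc hSK hD.rk

/-- **A row from the sheets of kind (GAM).** -/
theorem row_of_gam (h1173 : Start.P1173.{u}) {P : (K : Type u) → [Group K] → Prop}
    (hS : ∀ (X : Type u) [Group X] [Finite X] [IsSimpleGroup X], P X → SheetG X) : Cut.Row1.{u} P := by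
  intro G _ hG K hK hrk hz hP
  have := hG.fin
  have := hG.simple
  have hs := Start.isSimple_of_center hK.simple hz
  have hSK := hS ↥K hP
  have hcen := cen_of_center hz
  obtain ⟨a, b, ha, hb, ha2, hb2, hab, hne⟩ := EvenPair.exists_two_of_not_pRankLE hrk
  have hperf : ⁅K, K⁆ = K := by
    have h1 : ⁅(⊤ : Subgroup ↥K), (⊤ : Subgroup ↥K)⁆ = ⊤ := hK.std.1.1.commutator_eq_top
    have h2 := congrArg (Subgroup.map K.subtype) h1
    rw [Subgroup.map_commutator, ← MonoidHom.range_eq_map, Subgroup.range_subtype] at h2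
    exact h2
  have hne' : K ≠ ⊥ := by
    rintro rfl
    have := hs.toNontrivial
    exact not_subsingleton ↥(⊥ : Subgroup G) inferInstance
  obtain ⟨L, Q, U, hp⟩ := exists_fullPair_of_inn (h1173 G (Start.oddCore_eq_bot ha2)) hK.std hcen hSK.inn hne' hperf
  exact false_of_gam hp hK.std hs hcen ⟨a, b, ha, hb, ha2, hb2, hab, hne⟩ hSK

/-- the sheet of every group isomorphic to a model -/
theorem sheet_of_model {Y : Type*} [Group Y] (h : Sheet Y) {X : Type*} [Group X] (e : Nonempty (X ≃* Y)) :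
    Sheet X := by
  obtain ⟨e⟩ := e
  exact Sheet.of_equiv e.symm h

theorem sheetG_of_model {Y : Type*} [Group Y] (h : SheetG Y) {X : Type*} [Group X] (e : Nonempty (X ≃* Y)) :
    SheetG X := by
  obtain ⟨e⟩ := e
  exact SheetG.of_equiv e.symm h

/-- The sheets of the sporadic groups (use `sheet_of_model` for a model). -/
structure Sheets : Prop where
  m11 : ∀ (X : Type u) [Group X], Spor.IsoM11 X → Sheet X
  m22 : ∀ (X : Type u) [Group X], Spor.IsoM22 X → Sheet X
  m23 : ∀ (X : Type u) [Group X], Spor.IsoM23 X → Sheet X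
  m24 : ∀ (X : Type u) [Group X], Spor.IsoM24 X → Sheet X
  j1 : ∀ (X : Type u) [Group X], Spor.IsoJ1 X → SheetG X
  j2 : ∀ (X : Type u) [Group X], Spor.IsoJ2 X → Sheet X
  j3 : ∀ (X : Type u) [Group X], Spor.IsoJ3 X → Sheet X
  j4 : ∀ (X : Type u) [Group X], Spor.IsoJ4 X → Sheet X
  co1 : ∀ (X : Type u) [Group X], Spor.IsoCo1 X → Sheet X
  co2 : ∀ (X : Type u) [Group X], Spor.IsoCo2 X → Sheet X
  co3 : ∀ (X : Type u) [Group X], Spor.IsoCo3 X → Sheet X
  hs : ∀ (X : Type u) [Group X], Spor.IsoHS X → Sheet X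
  suz : ∀ (X : Type u) [Group X], Spor.IsoSuz X → Sheet X
  he : ∀ (X : Type u) [Group X], Spor.IsoHe X → Sheet X
  ru : ∀ (X : Type u) [Group X], Spor.IsoRu X → Sheet X
  on : ∀ (X : Type u) [Group X], Spor.IsoON X → Sheet X
  fi22 : ∀ (X : Type u) [Group X], Spor.IsoFi22 X → Sheet X
  fi23 : ∀ (X : Type u) [Group X], Spor.IsoFi23 X → SheetG X
  fi24 : ∀ (X : Type u) [Group X], Spor.IsoFi24' X → Sheet X
  hn : ∀ (X : Type u) [Group X], Spor.IsoHN X → Sheet X
  th : ∀ (X : Type u) [Group X], Spor.IsoTh X → Sheet X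
  b : ∀ (X : Type u) [Group X], Spor.IsoB X → Sheet X
  m : ∀ (X : Type u) [Group X], Spor.IsoM X → Sheet X

/-- **The sporadic rows of D4.** -/
theorem rowsSpor (h1173 : Start.P1173.{u}) (hFT : FTT.{u}) (hse : PSE.{u}) (h : Sheets.{u}) : Cut.RowsSpor.{u} where
  m11 := row_of_sheet h1173 hFT hse fun X _ _ _ => h.m11 X
  m22 := row_of_sheet h1173 hFT hse fun X _ _ _ => h.m22 X
  m23 := row_of_sheet h1173 hFT hse fun X _ _ _ => h.m23 X
  m24 := row_of_sheet h1173 hFT hse fun X _ _ _ => h.m24 X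
  j1 := row_of_gam h1173 fun X _ _ _ => h.j1 X
  j2 := row_of_sheet h1173 hFT hse fun X _ _ _ => h.j2 X
  j3 := row_of_sheet h1173 hFT hse fun X _ _ _ => h.j3 X
  j4 := row_of_sheet h1173 hFT hse fun X _ _ _ => h.j4 X
  co1 := row_of_sheet h1173 hFT hse fun X _ _ _ => h.co1 X
  co2 := row_of_sheet h1173 hFT hse fun X _ _ _ => h.co2 X
  co3 := row_of_sheet h1173 hFT hse fun X _ _ _ => h.co3 X
  hs := row_of_sheet h1173 hFT hse fun X _ _ _ => h.hs X
  suz := row_of_sheet h1173 hFT hse fun X _ _ _ => h.suz X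
  he := row_of_sheet h1173 hFT hse fun X _ _ _ => h.he X
  ru := row_of_sheet h1173 hFT hse fun X _ _ _ => h.ru X
  on := row_of_sheet h1173 hFT hse fun X _ _ _ => h.on X
  fi22 := row_of_sheet h1173 hFT hse fun X _ _ _ => h.fi22 X
  fi23 := row_of_gam h1173 fun X _ _ _ => h.fi23 X
  fi24 := row_of_sheet h1173 hFT hse fun X _ _ _ => h.fi24 X
  hn := row_of_sheet h1173 hFT hse fun X _ _ _ => h.hn X
  th := row_of_sheet h1173 hFT hse fun X _ _ _ => h.th X
  b := row_of_sheet h1173 hFT hse fun X _ _ _ => h.b X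
  m := row_of_sheet h1173 hFT hse fun X _ _ _ => h.m X

end Cfsg.Agent.OddHalf.D4.Spor

end
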