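import Cfsg.Agent.Schreier.SylMTwentyTwo
import Cfsg.Agent.OddHalf.D4.Spor.OfBasic
import Cfsg.Agent.UGT.MTwentyThree.End
import Cfsg.Agent.OddHalf.D4.Spor.Transport
import Cfsg.Agent.OddHalf.Table.OutMTwentyTwo
import Cfsg.Agent.Schreier.MTwentyTwo

-- merged: Cfsg.Agent.OddHalf.D4.Spor.MathieuSyl
section

/-!
# ODD half, D4, sporadic components: a Sylow 2-subgroup of `M₂₂` and `M₂₃` (helper283)

`T` (helper756's `Schreier/SylMTwentyTwo.lean`) : the centre of `T` is `{1, zz}`, and all the involutions of `T` are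
conjugate to `zz` in `M₂₂`.
-/

set_option autoImplicit false
set_option maxRecDepth 100000

namespace Cfsg.Agent.OddHalf.D4.Spor.MathieuSyl

open Cfsg Cfsg.Agent.Golay.Orbit Cfsg.Agent.Schreier.SylMTwentyTwo

/-- the table of the central involution -/
def zL : List ℕ := [0, 1, 2, 3, 13, 5, 19, 21, 11, 15, 20, 8, 18, 4, 14, 9, 22, 17, 12, 6, 10, 7, 16, 23]

theorem zL_mem : memL zL els = true := by decide +kernel

theorem zL_sq : mulL zL zL = idL := by decide +kernel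

theorem zL_ne : zL ≠ idL := by decide +kernel

theorem zL_central : (gl.all fun g => mulL zL g == mulL g zL) = true := by decide +kernel

theorem center_check : (els.all fun l => !(gl.all fun g => mulL g l == mulL l g) || l == idL || l == zL) = true := by
  decide +kernel

/-- elements of `M22` conjugating the involutions of `T` to `zz` -/
def cert : List (List ℕ) :=
  [[0, 1, 5, 3, 4, 17, 22, 6, 12, 13, 21, 19, 16, 15, 14, 9, 8, 2, 10, 20, 11, 18, 7, 23],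
   [0, 14, 5, 17, 11, 2, 6, 21, 20, 15, 10, 4, 16, 19, 3, 22, 7, 1, 9, 8, 13, 12, 18, 23],
   [0, 17, 2, 3, 20, 5, 19, 11, 12, 6, 8, 13, 10, 7, 1, 15, 18, 14, 21, 9, 22, 16, 4, 23],
   [0, 2, 1, 18, 5, 8, 7, 19, 20, 22, 4, 15, 9, 17, 11, 13, 3, 12, 10, 21, 16, 6, 14, 23],
   [0, 3, 5, 14, 8, 2, 13, 4, 21, 6, 19, 20, 10, 16, 17, 9, 22, 1, 7, 18, 15, 12, 11, 23],
   [0, 18, 12, 16, 4, 22, 10, 15, 11, 21, 20, 8, 1, 13, 17, 9, 5, 14, 2, 6, 19, 7, 3, 23],
   [0, 1, 2, 15, 6, 10, 4, 13, 8, 17, 5, 11, 12, 7, 20, 3, 19, 9, 18, 16, 14, 22, 21, 23],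
   [0, 1, 2, 3, 4, 5, 6, 7, 8, 9, 10, 11, 12, 13, 14, 15, 16, 17, 18, 19, 20, 21, 22, 23],
   [0, 5, 3, 10, 8, 20, 15, 19, 13, 1, 14, 18, 4, 22, 21, 2, 16, 7, 12, 9, 17, 6, 11, 23],
   [0, 17, 14, 15, 11, 7, 18, 22, 1, 6, 19, 5, 3, 13, 9, 10, 8, 21, 2, 12, 20, 16, 4, 23],
   [0, 18, 12, 17, 3, 14, 10, 15, 8, 19, 9, 11, 2, 5, 16, 20, 13, 22, 1, 6, 21, 7, 4, 23],
   [0, 7, 21, 15, 5, 9, 13, 22, 2, 16, 11, 1, 6, 3, 14, 12, 20, 17, 19, 8, 4, 18, 10, 23],
   [0, 1, 2, 18, 6, 11, 4, 16, 14, 9, 10, 5, 17, 21, 8, 15, 7, 12, 3, 22, 20, 13, 19, 23],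
   [0, 3, 5, 1, 16, 14, 20, 21, 19, 12, 4, 9, 6, 11, 17, 13, 22, 2, 15, 7, 18, 10, 8, 23],
   [0, 3, 5, 22, 4, 16, 9, 15, 17, 21, 20, 14, 2, 13, 11, 10, 12, 8, 1, 6, 7, 19, 18, 23],
   [0, 3, 2, 14, 12, 5, 7, 13, 4, 19, 22, 9, 8, 6, 1, 18, 16, 17, 21, 11, 10, 15, 20, 23],
   [0, 2, 17, 3, 20, 1, 21, 10, 9, 22, 8, 16, 11, 4, 5, 15, 18, 14, 19, 12, 6, 13, 7, 23],
   [0, 15, 9, 3, 22, 5, 2, 10, 13, 17, 7, 12, 8, 11, 19, 14, 4, 6, 16, 1, 21, 20, 18, 23],
   [0, 14, 3, 5, 4, 2, 21, 19, 12, 18, 8, 9, 10, 6, 17, 15, 7, 1, 11, 16, 20, 13, 22, 23],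
   [0, 17, 3, 1, 9, 5, 15, 10, 18, 7, 19, 6, 21, 13, 2, 8, 22, 14, 11, 4, 12, 16, 20, 23],
   [0, 16, 22, 14, 19, 17, 4, 2, 9, 8, 5, 21, 6, 20, 12, 11, 7, 18, 10, 13, 3, 1, 15, 23],
   [0, 2, 1, 22, 3, 13, 8, 11, 15, 21, 6, 10, 9, 17, 16, 7, 14, 4, 20, 18, 19, 12, 5, 23],
   [0, 2, 1, 10, 12, 15, 22, 4, 19, 5, 3, 21, 7, 18, 20, 14, 11, 9, 6, 13, 17, 16, 8, 23],
   [0, 2, 14, 1, 8, 3, 15, 4, 9, 22, 20, 18, 6, 10, 5, 21, 16, 17, 13, 12, 11, 19, 7, 23],
   [0, 14, 17, 8, 1, 11, 7, 15, 16, 20, 10, 22, 12, 2, 4, 6, 3, 13, 18, 9, 19, 21, 5, 23],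
   [0, 5, 3, 10, 6, 7, 14, 17, 13, 8, 22, 4, 12, 15, 20, 16, 9, 21, 18, 2, 11, 1, 19, 23],
   [0, 14, 5, 3, 19, 17, 22, 10, 6, 9, 4, 21, 8, 7, 2, 20, 11, 1, 12, 13, 16, 15, 18, 23],
   [0, 15, 9, 2, 19, 1, 8, 13, 17, 11, 22, 14, 21, 6, 20, 18, 3, 10, 7, 12, 4, 16, 5, 23],
   [0, 2, 1, 8, 20, 11, 3, 14, 21, 16, 4, 19, 6, 9, 18, 22, 10, 12, 7, 5, 13, 17, 15, 23],
   [0, 6, 19, 7, 11, 21, 15, 3, 18, 14, 10, 8, 16, 12, 2, 17, 22, 1, 4, 9, 20, 5, 13, 23],
   [0, 8, 11, 22, 9, 16, 2, 12, 15, 4, 17, 19, 21, 6, 5, 13, 20, 3, 10, 1, 14, 18, 7, 23],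
   [0, 1, 17, 3, 21, 5, 4, 9, 11, 18, 19, 22, 10, 20, 2, 13, 16, 14, 7, 12, 15, 6, 8, 23],
   [0, 1, 2, 15, 8, 10, 14, 3, 6, 22, 16, 7, 19, 11, 20, 13, 12, 9, 21, 5, 4, 17, 18, 23],
   [0, 14, 2, 17, 11, 1, 18, 6, 16, 19, 12, 8, 7, 22, 3, 15, 20, 5, 10, 13, 4, 9, 21, 23],
   [0, 2, 3, 17, 12, 5, 4, 9, 7, 19, 18, 13, 15, 20, 1, 22, 16, 14, 11, 21, 10, 8, 6, 23]]

theorem cert_ok : (cert.all fun l => okTab (l.map (fun i => 2 ^ i)) && m24Tab (l.map (fun i => 2 ^ i)) &&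
    Nat.beq (l.getD 23 24) 23 && Nat.beq (l.getD 0 24) 0) = true := by decide +kernel

theorem conj_check : (els.all fun l => !(mulL l l == idL) || l == idL ||
    cert.any (fun g => mulL g l == mulL zL g)) = true := by decide +kernel

theorem exists_cert {l : List ℕ} (hl : l ∈ cert) : ∃ g : Equiv.Perm GolayPt, Rp g l ∧ g ∈ Spor.M22 := by
  have h0 := cert_ok
  rw [List.all_eq_true] at h0
  have h1 := h0 l hl
  simp only [Bool.and_eq_true] at h1
  obtain ⟨⟨⟨h2, h3⟩, h4⟩, h5⟩ := h1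
  obtain ⟨g, hg⟩ := exists_rep _ h2
  have hr := rp_of_rep hg
  refine ⟨g, hr, ⟨⟨hg.mem_M24 h3, ?_⟩, ?_⟩⟩
  · apply idx_injective
    rw [Equiv.Perm.smul_def, ← hr.eq]
    exact Nat.eq_of_beq_eq_true h4
  · apply idx_injective
    rw [Equiv.Perm.smul_def, ← hr.eq]
    exact Nat.eq_of_beq_eq_true h5

theorem exists_z : ∃ z ∈ T, Rp z zL := exists_els (mem_of_memL zL_mem)

/-- the central involution of `T` -/
noncomputable def zz : Equiv.Perm GolayPt := exists_z.choose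

theorem zz_mem : zz ∈ T := exists_z.choose_spec.1

theorem rp_zz : Rp zz zL := exists_z.choose_spec.2

theorem zz_sq : zz * zz = 1 := by
  have h := rp_zz.mul rp_zz
  rw [zL_sq] at h
  exact h.inj rp_one

theorem zz_ne : zz ≠ 1 := by
  intro h
  have h1 := rp_zz
  rw [h] at h1
  exact zL_ne (h1.unique rp_one)

theorem gl_mem (k : Fin 3) : gl.getD k [] ∈ gl := by
  have hk' : (k : ℕ) < gl.length := k.2
  rw [List.getD_eq_getElem _ _ hk']
  exact List.getElem_mem hk'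

theorem zz_comm_gen (k : Fin 3) : gen k * zz = zz * gen k := by
  have h := zL_central
  rw [List.all_eq_true] at h
  have h1 := h _ (gl_mem k)
  rw [beq_iff_eq] at h1
  have h2 := rp_zz.mul (rp_gen k)
  rw [h1] at h2
  exact ((rp_gen k).mul rp_zz).inj h2

/-- `zz` is central in `T` -/
theorem zz_comm {x : Equiv.Perm GolayPt} (hx : x ∈ T) : x * zz = zz * x := by
  have h : T ≤ Subgroup.centralizer ({zz} : Set (Equiv.Perm GolayPt)) := by
    rw [T, Subgroup.closure_le]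
    rintro _ ⟨k, rfl⟩
    exact Subgroup.mem_centralizer_singleton_iff.2 (zz_comm_gen k)
  exact Subgroup.mem_centralizer_singleton_iff.1 (h hx)

/-- the centre of `T` -/
theorem center_T {y : Equiv.Perm GolayPt} (hy : y ∈ T) (h : ∀ x ∈ T, x * y = y * x) : y = 1 ∨ y = zz := by
  obtain ⟨l, hl, hr⟩ := exists_mem_els hy
  have h0 := center_check
  rw [List.all_eq_true] at h0
  have h1 := h0 l hl
  have h2 : (gl.all fun g => mulL g l == mulL l g) = true := by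
    rw [List.all_eq_true]
    intro g hg
    obtain ⟨i, hi, hgi⟩ := List.getElem_of_mem hg
    have hi' : i < 3 := hi
    have e : gl.getD i [] = g := by rw [List.getD_eq_getElem _ _ hi, hgi]
    rw [beq_iff_eq, ← e]
    have h3 := (rp_gen ⟨i, hi'⟩).mul hr
    rw [h (gen ⟨i, hi'⟩) (Subgroup.subset_closure ⟨_, rfl⟩)] at h3
    exact h3.unique (hr.mul (rp_gen ⟨i, hi'⟩))
  rw [h2] at h1
  simp only [Bool.not_true, Bool.false_or, Bool.or_eq_true, beq_iff_eq] at h1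
  rcases h1 with h3 | h3
  · left
    rw [h3] at hr
    exact hr.inj rp_one
  · right
    rw [h3] at hr
    exact hr.inj rp_zz

/-- the involutions of `T` are conjugate in `M22` -/
theorem conj_T {y : Equiv.Perm GolayPt} (hy : y ∈ T) (h2 : y * y = 1) (h1 : y ≠ 1) :
    ∃ g ∈ Spor.M22, g * y * g⁻¹ = zz := by
  obtain ⟨l, hl, hr⟩ := exists_mem_els hy
  have h0 := conj_check
  rw [List.all_eq_true] at h0
  have h3 := h0 l hl
  have h4 : mulL l l = idL := by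
    have := hr.mul hr
    rw [h2] at this
    exact this.unique rp_one
  have h5 : l ≠ idL := by
    intro h
    rw [h] at hr
    exact h1 (hr.inj rp_one)
  rw [h4] at h3
  simp only [beq_self_eq_true, Bool.not_true, Bool.false_or, Bool.or_eq_true, beq_iff_eq] at h3
  rcases h3 with h3 | h3
  · exact absurd h3 h5
  · rw [List.any_eq_true] at h3
    obtain ⟨g', hg', h6⟩ := h3
    rw [beq_iff_eq] at h6
    obtain ⟨g, hg, hgM⟩ := exists_cert hg'
    refine ⟨g, hgM, ?_⟩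
    rw [mul_inv_eq_iff_eq_mul]
    have h7 := hg.mul hr
    rw [h6] at h7
    exact h7.inj (rp_zz.mul hg)

section

variable {H : Subgroup (Equiv.Perm GolayPt)} (hTH : T ≤ H) (hidx : ¬ 2 ∣ (T.subgroupOf H).index)

include hTH in
theorem isPGroup_T' : IsPGroup 2 (T.subgroupOf H) :=
  isPGroup_T.of_equiv (Subgroup.subgroupOfEquivOfLe hTH).symm

include hTH hidx in
/-- `T` as a Sylow subgroup of `H` -/
theorem exists_sylow : ∃ S : Sylow 2 H, (S : Subgroup H) = T.subgroupOf H := by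
  have : Fact (Nat.Prime 2) := ⟨Nat.prime_two⟩
  exact ⟨(isPGroup_T' hTH).toSylow hidx, rfl⟩

include hTH hidx in
/-- one class of involutions -/
theorem one_class (hM : Spor.M22 ≤ H) (y : H) (h2 : y * y = 1) (h1 : y ≠ 1) :
    ∃ g : H, g * ⟨zz, hTH zz_mem⟩ * g⁻¹ = y := by
  obtain ⟨g, hg⟩ := exists_conj_mem_of_index (X := H) hidx (isPGroup_zpowers_of_sq h2)
  have h3 : ((g * y * g⁻¹ : H) : Equiv.Perm GolayPt) ∈ T := Subgroup.mem_subgroupOf.1 hg
  obtain ⟨k, hk, hkz⟩ := conj_T h3 (by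
    have : (g * y * g⁻¹) * (g * y * g⁻¹) = 1 := by
      calc (g * y * g⁻¹) * (g * y * g⁻¹) = g * (y * y) * g⁻¹ := by group
        _ = 1 := by rw [h2]; group
    exact congrArg Subtype.val this) (by
    intro h4
    apply h1
    have h5 : g * y * g⁻¹ = 1 := Subtype.ext h4
    calc y = g⁻¹ * (g * y * g⁻¹) * g := by group
      _ = 1 := by rw [h5]; group)
  refine ⟨(⟨k, hM hk⟩ * g)⁻¹, ?_⟩
  have e : (⟨zz, hTH zz_mem⟩ : H) = ⟨k, hM hk⟩ * (g * y * g⁻¹) * ⟨k, hM hk⟩⁻¹ := Subtype.ext hkz.symm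
  rw [e]
  group

include hTH hidx in
/-- the centre of a Sylow subgroup -/
theorem exists_center : ∃ S : Sylow 2 H, ∀ y ∈ S, (∀ x ∈ S, x * y = y * x) → y = 1 ∨ y = ⟨zz, hTH zz_mem⟩ := by
  obtain ⟨S, hS⟩ := exists_sylow hTH hidx
  refine ⟨S, fun y hy h => ?_⟩
  have hy' : y ∈ (S : Subgroup H) := hy
  rw [hS, Subgroup.mem_subgroupOf] at hy'
  rcases center_T hy' (fun x hx => by
    have h1 : (⟨x, hTH hx⟩ : H) ∈ (S : Subgroup H) := by
      rw [hS, Subgroup.mem_subgroupOf]; exact hx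
    exact congrArg Subtype.val (h _ h1)) with h1 | h1
  · exact Or.inl (Subtype.ext h1)
  · exact Or.inr (Subtype.ext h1)

end

end Cfsg.Agent.OddHalf.D4.Spor.MathieuSyl

end

-- merged: Cfsg.Agent.OddHalf.D4.Spor.MathieuOct
section

/-!
# ODD half, D4, sporadic components: pointwise stabilizers of octads (helper283)

`mem_fixOct_of_comm` : `C(fixOct o) ≤ fixOct o` in the stabilizer of `o` in `M24`.
`core_bot` : `O(C(t)) = 1` for an involution `t` with fixed points `o` of a subgroup containing `fixOct o`.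
-/

set_option autoImplicit false
open scoped Pointwise

namespace Cfsg.Agent.OddHalf.D4.Spor.MathieuOct

open Cfsg Subgroup
open Cfsg.Agent.SporadicA.GolayBase Cfsg.Agent.SporadicA.GolayPerm
open Cfsg.Agent.SporadicA.OctadFix
open Cfsg.Agent.J4Type.FusionComm (fixOct_comm exists_out)
open Cfsg.Agent.UGT.MTwentyThree.End (smul_eq_octad eq_one_of_fix_compl)

/-- `fixOct o` is self-centralizing in the stabilizer of `o` -/
theorem mem_fixOct_of_comm {o : Finset GolayPt} (ho : o ∈ octads) {d : Equiv.Perm GolayPt} (hdM : d ∈ M24)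
    (hdo : ∀ q, q ∈ o → d q ∈ o) (hcomm : ∀ v ∈ fixOct o, d * v = v * d) : d ∈ fixOct o := by
  classical
  have hdo' : d • o = o := smul_eq_octad hdo
  obtain ⟨p, hp⟩ := exists_out ho
  have hdp : d p ∉ o := by
    intro h
    apply hp
    rw [← hdo'] at h
    exact (mem_smul_iff _ _ _).1 h
  obtain ⟨v, ⟨hv, hvp⟩, -⟩ := existsUnique_fixOct ho hp hdp
  have hone : v⁻¹ * d = 1 := by
    apply eq_one_of_fix_compl ho (M24.mul_mem (M24.inv_mem (mem_fixOct.1 hv).1) hdM)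
    intro q hq
    obtain ⟨w, ⟨hw, hwp⟩, -⟩ := existsUnique_fixOct ho hp hq
    have h1 : (v⁻¹ * d) * w = w * (v⁻¹ * d) := by
      rw [mul_assoc, hcomm w hw, ← mul_assoc, ← mul_assoc,
        fixOct_comm ho ((fixOct o).inv_mem hv) hw]
    have h2 := congrArg (fun f : Equiv.Perm GolayPt => f p) h1
    simp only [Equiv.Perm.mul_apply] at h2
    rw [hwp, ← hvp, show v⁻¹ (v p) = p from v.symm_apply_apply p, hwp] at h2
    rw [Equiv.Perm.mul_apply]
    exact h2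
  rw [← inv_mul_eq_one.1 hone]
  exact hv

/-- elements commuting with `t` preserve the fixed points of `t` -/
theorem maps_of_comm {o : Finset GolayPt} {d t : Equiv.Perm GolayPt} (hfix : ∀ q, t q = q ↔ q ∈ o)
    (hdt : d * t = t * d) (q : GolayPt) (hq : q ∈ o) : d q ∈ o := by
  rw [← hfix] at hq ⊢
  have h1 := congrArg (fun f : Equiv.Perm GolayPt => f q) hdt
  simp only [Equiv.Perm.mul_apply] at h1
  rw [← h1, hq]

/-- `O(C(t)) = 1` -/
theorem core_bot {H : Subgroup (Equiv.Perm GolayPt)} (hH : H ≤ M24) {o : Finset GolayPt} (ho : o ∈ octads)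
    (hK : fixOct o ≤ H) {t : H} (hfix : ∀ q, (t : Equiv.Perm GolayPt) q = q ↔ q ∈ o) {I : Subgroup H}
    (hc : ∀ i ∈ I, i * t = t * i) (hn : ∀ c : H, c * t = t * c → ∀ i ∈ I, c * i * c⁻¹ ∈ I)
    (hI : Odd (Nat.card I)) : I = ⊥ := by
  classical
  rw [Subgroup.eq_bot_iff_forall]
  intro d hd
  have hodd : ∀ w ∈ I, w * w = 1 → w = 1 := by
    intro w hw hww
    have h1 : orderOf w ∣ 2 := orderOf_dvd_of_pow_eq_one (by rw [pow_two, hww])
    have h2 : Odd (orderOf w) := by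
      refine hI.of_dvd_nat ?_
      have := orderOf_dvd_natCard (⟨w, hw⟩ : I)
      rwa [← Subgroup.orderOf_coe] at this
    rcases (Nat.dvd_prime Nat.prime_two).1 h1 with h3 | h3
    · exact orderOf_eq_one_iff.1 h3
    · rw [h3] at h2
      exact absurd h2 (by decide)
  have hdt : (d : Equiv.Perm GolayPt) * t = t * d := congrArg Subtype.val (hc d hd)
  have hdo : ∀ q, q ∈ o → (d : Equiv.Perm GolayPt) q ∈ o := maps_of_comm hfix hdt
  have hdo' : (d : Equiv.Perm GolayPt) • o = o := smul_eq_octad hdo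
  have hdM : (d : Equiv.Perm GolayPt) ∈ M24 := hH d.2
  have htfix : (t : Equiv.Perm GolayPt) ∈ fixOct o :=
    mem_fixOct.2 ⟨hH t.2, fun x hx => (hfix x).2 hx⟩
  have hcomm : ∀ v ∈ fixOct o, (d : Equiv.Perm GolayPt) * v = v * d := by
    intro v hv
    let vM : H := ⟨v, hK hv⟩
    have hvt : vM * t = t * vM := Subtype.ext (fixOct_comm ho hv htfix)
    have h1 : (d : Equiv.Perm GolayPt) * v * (d : Equiv.Perm GolayPt)⁻¹ ∈ fixOct o := by
      have h2 := (conj_mem_fixOct (o := o) (g := v) hdM).2 hv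
      rwa [hdo'] at h2
    have h2 : (d : Equiv.Perm GolayPt) * v * (d : Equiv.Perm GolayPt)⁻¹ * v⁻¹ ∈ fixOct o :=
      (fixOct o).mul_mem h1 ((fixOct o).inv_mem hv)
    have h3 : d * vM * d⁻¹ * vM⁻¹ ∈ I := by
      have e : d * vM * d⁻¹ * vM⁻¹ = d * (vM * d⁻¹ * vM⁻¹) := by group
      rw [e]
      exact I.mul_mem hd (hn vM hvt _ (I.inv_mem hd))
    have h4 : d * vM * d⁻¹ * vM⁻¹ = 1 := by
      refine hodd _ h3 (Subtype.ext ?_)
      exact fixOct_sq ho h2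
    have h5 : d * vM = vM * d := by
      have h6 : d * vM * d⁻¹ = vM := mul_inv_eq_one.mp h4
      rwa [mul_inv_eq_iff_eq_mul] at h6
    exact congrArg Subtype.val h5
  have hv := mem_fixOct_of_comm ho hdM hdo hcomm
  exact hodd d hd (Subtype.ext (fixOct_sq ho hv))

end Cfsg.Agent.OddHalf.D4.Spor.MathieuOct

end

-- merged: Cfsg.Agent.OddHalf.D4.Spor.M2223
section

/-!
# ODD half, D4, sporadic components: the sheets of `M₂₂` and `M₂₃` (helper283)
-/

set_option autoImplicit false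
open scoped Pointwise

namespace Cfsg.Agent.OddHalf.D4.Spor.M2223

open Cfsg Subgroup
open Cfsg.Agent.Schreier.SylMTwentyTwo (T T_le card_T)
open Cfsg.Agent.OddHalf.D4.Spor.MathieuSyl Cfsg.Agent.OddHalf.D4.Spor.MathieuOct
open Cfsg.Agent.SporadicA.GolayBase Cfsg.Agent.SporadicA.GolayPerm
open Cfsg.Agent.SporadicA.OctadFix
open Cfsg.Agent.SporadicA.MathieuRecog (mem_M23_iff card_M22 card_M23 simple_M22)
open Cfsg.Agent.Schreier.MTwentyThree (M23_le_M24)

theorem M22_le_M23 : Spor.M22 ≤ Spor.M23 := inf_le_left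

theorem M22_le_M24 : Spor.M22 ≤ M24 := M22_le_M23.trans M23_le_M24

theorem T_le23 : T ≤ Spor.M23 := T_le.trans M22_le_M23

theorem card_T' {H : Subgroup (Equiv.Perm GolayPt)} (hTH : T ≤ H) : Nat.card (T.subgroupOf H) = 128 := by
  rw [Nat.card_congr (subgroupOfEquivOfLe hTH).toEquiv, card_T]

theorem idx22 : ¬ 2 ∣ (T.subgroupOf Spor.M22).index := by
  have h := (T.subgroupOf Spor.M22).card_mul_index
  rw [card_T' T_le, card_M22] at h
  omega

theorem idx23 : ¬ 2 ∣ (T.subgroupOf Spor.M23).index := by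
  have h := (T.subgroupOf Spor.M23).card_mul_index
  rw [card_T' T_le23, card_M23] at h
  omega

theorem finite22 : Finite Spor.M22 := Nat.finite_of_card_ne_zero (by rw [card_M22]; norm_num)

theorem finite23 : Finite Spor.M23 := Nat.finite_of_card_ne_zero (by rw [card_M23]; norm_num)

/-- `zz` is 2-central -/
theorem cen_zz {H : Subgroup (Equiv.Perm GolayPt)} [Finite H] (hTH : T ≤ H)
    (hidx : ¬ 2 ∣ (T.subgroupOf H).index) : Cen (⟨zz, hTH zz_mem⟩ : H) := by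
  obtain ⟨S, hS⟩ := exists_sylow hTH hidx
  refine ⟨S, fun s hs => ?_⟩
  have hs' : s ∈ (S : Subgroup H) := hs
  rw [hS, mem_subgroupOf] at hs'
  exact Subtype.ext (zz_comm hs')

theorem all_cen {H : Subgroup (Equiv.Perm GolayPt)} [Finite H] (hTH : T ≤ H)
    (hidx : ¬ 2 ∣ (T.subgroupOf H).index) (hM : Spor.M22 ≤ H) (w : H) (h2 : w * w = 1) (h1 : w ≠ 1) :
    Cen w := by
  obtain ⟨g, hg⟩ := one_class hTH hidx hM w h2 h1
  exact cen_conj hg (cen_zz hTH hidx)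

/-! ### `M₂₃` -/

/-- the sheet of `M₂₃` -/
theorem sheet23' : Spor.Sheet Spor.M23 := by
  have := finite23
  have hin : ∀ α : MulAut Spor.M23, Inn α :=
    Cfsg.Agent.UGT.MTwentyThree.End.exists_conj ⟨MulEquiv.refl _⟩
  refine Sheet.of_all_cen (out_of_inn hin) (schreier_of_inn hin) (sylAut_of_inn hin) ?_ ?_
    (all_cen T_le23 idx23 M22_le_M23)
  · exact fun S a ha _ ha1 hac b hb _ hb1 hbc =>
      z1_of_one (exists_center T_le23 idx23) S a ha ha1 hac b hb hb1 hbc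
  · intro a h1 h2
    exact bal_of_core (Cfsg.Agent.UGT.MTwentyThree.End.core_eq_bot ⟨MulEquiv.refl _⟩
      (orderOf_eq_prime (by rw [pow_two, h1]) h2))

theorem sheet23 {X : Type*} [Group X] (h : Spor.IsoM23 X) : Spor.Sheet X := by
  obtain ⟨e⟩ := h
  exact Sheet.of_equiv e.symm sheet23'

/-! ### `M₂₂` -/

theorem mem_M22_iff {g : Equiv.Perm GolayPt} : g ∈ Spor.M22 ↔ g ∈ M24 ∧ g none = none ∧ g (some 0) = some 0 := by
  constructor
  · rintro ⟨⟨h1, h2⟩, h3⟩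
    exact ⟨h1, h2, h3⟩
  · rintro ⟨h1, h2, h3⟩
    exact ⟨⟨h1, h2⟩, h3⟩

/-- the octad of an involution of `M₂₂` -/
theorem exists_octad22 {t : Spor.M22} (h2 : t * t = 1) (h1 : t ≠ 1) : ∃ o ∈ octads, fixOct o ≤ Spor.M22 ∧
    ∀ q, (t : Equiv.Perm GolayPt) q = q ↔ q ∈ o := by
  have e2 : (t : Equiv.Perm GolayPt) * t = 1 := congrArg Subtype.val h2
  obtain ⟨o, ho, h0, hfix⟩ := Cfsg.Agent.UGT.MTwentyThree.End.exists_octad_M23
    (t := (⟨t, M22_le_M23 t.2⟩ : Spor.M23)) (Subtype.ext e2)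
    (fun h => by
      have e1 : (t : Equiv.Perm GolayPt) = 1 := congrArg Subtype.val h
      exact h1 (Subtype.ext e1))
  refine ⟨o, ho, fun v hv => ?_, hfix⟩
  have hv' := mem_fixOct.1 hv
  have h00 : (some 0 : GolayPt) ∈ o := (hfix _).1 (mem_M22_iff.1 t.2).2.2
  exact mem_M22_iff.2 ⟨hv'.1, hv'.2 _ h0, hv'.2 _ h00⟩

theorem sylAut22 (S : Sylow 2 Spor.M22) (α : MulAut Spor.M22) (hα : IsPGroup 2 ↥(zpowers α))
    (hS : ∀ x ∈ S, α x = x) : Inn α := by
  have := finite22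
  have hp : Fact (Nat.Prime 2) := ⟨Nat.prime_two⟩
  obtain ⟨S₀, hS₀⟩ := exists_sylow T_le idx22
  refine sylAut_of_one (S₀ := S₀) ?_ S α hα hS
  intro β _ hβ
  obtain ⟨g, hg, hgβ⟩ := Cfsg.Agent.J4Type.Aut22.exists_conj β
  have hgM : g ∈ M24 := ((Cfsg.Agent.J4Type.Aut22.mem_D22_iff g).1 hg).1
  have hmem : ∀ x : Spor.M22, x ∈ S₀ ↔ (x : Equiv.Perm GolayPt) ∈ T := by
    intro x
    have : x ∈ S₀ ↔ x ∈ (S₀ : Subgroup Spor.M22) := Iff.rfl
    rw [this, hS₀, mem_subgroupOf]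
  have hcom : ∀ x ∈ T, g * x = x * g := by
    intro x hx
    have h1 := hgβ ⟨x, T_le hx⟩
    rw [hβ _ ((hmem _).2 hx)] at h1
    have h2 : x = g * x * g⁻¹ := h1
    rw [eq_mul_inv_iff_mul_eq] at h2
    exact h2.symm
  obtain ⟨o, ho, hK, hfix⟩ := exists_octad22 (t := ⟨zz, T_le zz_mem⟩) (Subtype.ext zz_sq)
    (fun h => zz_ne (congrArg Subtype.val h))
  -- `fixOct o ≤ T`
  have hle : ∀ v ∈ fixOct o, v ∈ T := by
    have hF2 : IsPGroup 2 ((fixOct o).subgroupOf Spor.M22) := by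
      refine IsPGroup.of_card (n := 4) ?_
      rw [Nat.card_congr (subgroupOfEquivOfLe hK).toEquiv, card_fixOct ho]
      norm_num
    have hnorm : (S₀ : Subgroup Spor.M22) ≤ normalizer (((fixOct o).subgroupOf Spor.M22) : Set Spor.M22) := by
      have key : ∀ s ∈ S₀, ∀ v ∈ (fixOct o).subgroupOf Spor.M22, s * v * s⁻¹ ∈ (fixOct o).subgroupOf Spor.M22 := by
        intro s hs v hv
        rw [mem_subgroupOf] at hv ⊢
        have hs1 : (s : Equiv.Perm GolayPt) * zz = zz * s := zz_comm ((hmem s).1 hs)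
        have hso : (s : Equiv.Perm GolayPt) • o = o :=
          Cfsg.Agent.UGT.MTwentyThree.End.smul_eq_octad (maps_of_comm hfix hs1)
        have h3 := (conj_mem_fixOct (o := o) (g := (v : Equiv.Perm GolayPt)) (M22_le_M24 s.2)).2 hv
        rwa [hso] at h3
      intro s hs
      rw [mem_normalizer_iff]
      intro v
      constructor
      · exact fun hv => key s hs v hv
      · intro hv
        have h1 := key s⁻¹ (inv_mem hs) _ hv
        have e : s⁻¹ * (s * v * s⁻¹) * s⁻¹⁻¹ = v := by group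
        rwa [e] at h1
    have h2 := S₀.isPGroup'.to_sup_of_normal_right' hF2 hnorm
    have h3 := S₀.is_maximal' h2 le_sup_left
    intro v hv
    have h4 : (⟨v, hK hv⟩ : Spor.M22) ∈ (S₀ : Subgroup Spor.M22) := by
      rw [← h3]
      exact (le_sup_right : (fixOct o).subgroupOf Spor.M22 ≤ _) (mem_subgroupOf.2 hv)
    exact (hmem _).1 h4
  have hgo := mem_fixOct_of_comm ho hgM (maps_of_comm hfix (hcom zz zz_mem))
    (fun v hv => hcom v (hle v hv))
  refine ⟨⟨g, hK hgo⟩, ?_⟩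
  ext m
  rw [hgβ]
  rfl

/-- the sheet of `M₂₂` -/
theorem sheet22' : Spor.Sheet Spor.M22 := by
  have := finite22
  have := simple_M22
  refine Sheet.of_all_cen ?_ Cfsg.Agent.Schreier.MTwentyTwo.sch sylAut22 ?_ ?_
    (all_cen T_le idx22 le_rfl)
  · have hinj : Function.Injective (MulAut.conj : Spor.M22 →* MulAut Spor.M22) := by
      rw [← MonoidHom.ker_eq_bot_iff, eq_bot_iff]
      intro x hx
      rw [← Table.OutBasic.center_eq_bot (X := Spor.M22) (by rw [card_M22]; norm_num), mem_center_iff]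
      intro y
      have h1 : MulAut.conj x y = y := by
        rw [MonoidHom.mem_ker.1 hx]; rfl
      rw [MulAut.conj_apply, mul_inv_eq_iff_eq_mul] at h1
      exact h1.symm
    have hcard : Nat.card (MulAut.conj : Spor.M22 →* MulAut Spor.M22).range = 443520 := by
      rw [← Nat.card_congr (MonoidHom.ofInjective hinj).toEquiv, card_M22]
    have h := (MulAut.conj : Spor.M22 →* MulAut Spor.M22).range.card_mul_index
    rw [hcard] at h
    have h1 := Table.OutMTwentyTwo.card_le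
    have h2 : 0 < Nat.card (MulAut Spor.M22) := Nat.card_pos
    intro h4
    obtain ⟨k, hk⟩ := h4
    rw [hk] at h
    omega
  · exact fun S a ha _ ha1 hac b hb _ hb1 hbc =>
      z1_of_one (exists_center T_le idx22) S a ha ha1 hac b hb hb1 hbc
  · intro a h1 h2 I hc hn hodd
    obtain ⟨o, ho, hK, hfix⟩ := exists_octad22 h1 h2
    exact core_bot M22_le_M24 ho hK hfix hc hn hodd

theorem sheet22 {X : Type*} [Group X] (h : Spor.IsoM22 X) : Spor.Sheet X := by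
  obtain ⟨e⟩ := h
  exact Sheet.of_equiv e.symm sheet22'

end Cfsg.Agent.OddHalf.D4.Spor.M2223

end
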